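import Cfsg.Agent.Lib.BNSteinberg.Count
import Cfsg.Agent.Lib.TwistBN.Central

/-!
# Split Tits systems on a group, up to central quotients and normal subgroups of index prime to `p`
-/

set_option autoImplicit false
set_option linter.unusedSectionVars false

namespace CfsgLib.SplitBN

open CfsgLib.Chev.BN CfsgLib.BNSteinberg

universe u v

variable {G : Type u} [Group G] [Finite G] {P : Cfsg.BNPair G} {p : ℕ} {U : Subgroup G}

/-- `G` carries a split Tits system in characteristic `p` with a nontrivial unipotent part. -/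
def HasSplit (p : ℕ) (G : Type u) [Group G] : Prop :=
  ∃ (P : Cfsg.BNPair G) (U : Subgroup G), BNSteinberg.Split P p U ∧ U ≠ ⊥

theorem exists_U_moved (hs : BNSteinberg.Split P p U) {s : G} (hsS : s ∈ P.S) :
    ∃ u ∈ U, s⁻¹ * u * s ∉ P.B := by
  obtain ⟨b, hb, hne⟩ := exists_not_mem_sB (P := P) hsS
  obtain ⟨u, hu, t, ht, rfl⟩ := hs.decomp b hb
  refine ⟨u, hu, fun h => hne ?_⟩
  rw [show s⁻¹ * (u * t) * s = (s⁻¹ * u * s) * (s⁻¹ * t * s) by group]
  exact mul_mem h (conj_mem_H' (s_mem_N hsS) ht).1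

theorem ne_bot_of_mem (hs : BNSteinberg.Split P p U) {s : G} (hsS : s ∈ P.S) : U ≠ ⊥ := by
  intro h
  obtain ⟨u, hu, hne⟩ := exists_U_moved hs hsS
  rw [h, Subgroup.mem_bot] at hu
  subst hu
  exact hne (by simp)

theorem hasSplit_of_nonempty (hs : BNSteinberg.Split P p U) (hne : P.S.Nonempty) : HasSplit p G :=
  ⟨P, U, hs, ne_bot_of_mem hs hne.choose_spec⟩

theorem conj_mem_cell_s {s b : G} (hsS : s ∈ P.S) (hb : b ∈ P.B) (h : s⁻¹ * b * s ∉ P.B) :
    s⁻¹ * b * s ∈ cell P s := by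
  have hsi : s⁻¹ ∈ cell P s := by
    rw [(eqv_inv_self hsS).cell_eq]; exact mem_cell_self _
  rcases step_right hsS (s_mem_N hsS) hb hsi with h1 | h1
  · rw [← (eqv_one_iff.2 (sq_mem_H hsS)).cell_eq] at h1
    exact absurd (cell_one_subset h1) h
  · exact h1

/-- An element of a subgroup containing `U` has a representative in it. -/
theorem exists_rep_mem (hs : BNSteinberg.Split P p U) {M : Subgroup G} (hUM : U ≤ M) {x n : G}
    (hn : n ∈ P.N) (hx : x ∈ M) (hxn : x ∈ cell P n) :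
    ∃ r, r ∈ M ∧ r ∈ P.N ∧ Eqv P n r ∧ ∃ u ∈ U, ∃ u' ∈ U, x = u * r * u' := by
  obtain ⟨b, hb, b', hb', rfl⟩ := mem_cell.1 hxn
  obtain ⟨u, hu, h, hh, rfl⟩ := hs.decomp b hb
  obtain ⟨u', hu', h', hh', e⟩ := hs.decomp b'⁻¹ (inv_mem hb')
  obtain rfl : b' = h'⁻¹ * u'⁻¹ := by rw [← inv_inv b', e]; group
  refine ⟨h * n * h'⁻¹, ?_, mul_mem (mul_mem hh.2 hn) (inv_mem hh'.2), ?_, u, hu, u'⁻¹,
    inv_mem hu', by group⟩
  · rw [show h * n * h'⁻¹ = u⁻¹ * (u * h * n * (h'⁻¹ * u'⁻¹)) * u' by group]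
    exact mul_mem (mul_mem (inv_mem (hUM hu)) hx) (hUM hu')
  · show n⁻¹ * (h * n * h'⁻¹) ∈ P.B ⊓ P.N
    rw [show n⁻¹ * (h * n * h'⁻¹) = (n⁻¹ * h * n) * h'⁻¹ by group]
    exact mul_mem (conj_mem_H' hn hh) (inv_mem hh')

/-! ### Central quotients -/

section Map

variable {H : Type v} [Group H] [Finite H] (f : G →* H) (hf : Function.Surjective f)
  (hker : f.ker ≤ Subgroup.center G) (hs : BNSteinberg.Split P p U)
include hker hs

theorem ker_le_torus [Fact p.Prime] {z : G} (hz : f z = 1) : z ∈ P.B ⊓ P.N := by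
  have hzc := hker hz
  have hzB : z ∈ P.B := BNSteinberg.center_le_B hzc
  obtain ⟨u, hu, h, hh, rfl⟩ := hs.decomp z hzB
  obtain ⟨n, hn, hopp⟩ := hs.opp
  have h1 : n⁻¹ * (u * h) * n = u * h := by
    rw [mul_assoc, ← Subgroup.mem_center_iff.1 hzc n, inv_mul_cancel_left]
  have h2 : u = 1 := by
    refine hopp u hu ?_
    rw [show n⁻¹ * u * n = (n⁻¹ * (u * h) * n) * (n⁻¹ * h * n)⁻¹ by group, h1]
    exact mul_mem hzB (inv_mem (conj_mem_H' hn hh).1)
  rw [h2, one_mul]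
  exact hh

theorem map_mem_B [Fact p.Prime] {x : G} : f x ∈ P.B.map f ↔ x ∈ P.B := by
  refine ⟨fun ⟨y, hy, e⟩ => ?_, fun h => ⟨x, h, rfl⟩⟩
  have := mul_mem hy (ker_le_torus f hker hs (z := y⁻¹ * x) (by simp [e])).1
  rwa [mul_inv_cancel_left] at this

theorem map_mem_N [Fact p.Prime] {x : G} : f x ∈ P.N.map f ↔ x ∈ P.N := by
  refine ⟨fun ⟨y, hy, e⟩ => ?_, fun h => ⟨x, h, rfl⟩⟩
  have := mul_mem hy (ker_le_torus f hker hs (z := y⁻¹ * x) (by simp [e])).2
  rwa [mul_inv_cancel_left] at this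

theorem map_mem_torus [Fact p.Prime] {x : G} :
    f x ∈ P.B.map f ⊓ P.N.map f ↔ x ∈ P.B ⊓ P.N := by
  simp only [Subgroup.mem_inf, map_mem_B f hker hs, map_mem_N f hker hs]

include hf in
/-- The Tits system on a central quotient. -/
def mapPair [Fact p.Prime] : Cfsg.BNPair H where
  B := P.B.map f
  N := P.N.map f
  S := f '' P.S
  sup_eq_top := by
    rw [← Subgroup.map_sup, P.sup_eq_top, Subgroup.map_top_of_surjective f hf]
  conj_mem := by
    rintro _ ⟨n, hn, rfl⟩ t ht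
    obtain ⟨t, rfl⟩ := hf t
    have h := (map_mem_torus f hker hs).1 ht
    exact ⟨n * t * n⁻¹, P.conj_mem n hn t h, by simp⟩
  subset := by
    rintro _ ⟨s, hs', rfl⟩
    exact ⟨s, P.subset hs', rfl⟩
  sq_mem := by
    rintro _ ⟨s, hs', rfl⟩
    exact ⟨s * s, P.sq_mem s hs', by simp⟩
  inj := by
    rintro _ ⟨s, hs', rfl⟩ _ ⟨s', hs'', rfl⟩ h
    rw [← map_inv, ← map_mul] at h
    rw [P.inj s hs' s' hs'' ((map_mem_B f hker hs).1 h)]
  closure_sup := by
    have hinf : P.B.map f ⊓ P.N.map f = (P.B ⊓ P.N).map f := by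
      refine le_antisymm (fun y hy => ?_) (Subgroup.map_inf_le _ _ _)
      obtain ⟨x, rfl⟩ := hf y
      exact ⟨x, (map_mem_torus f hker hs).1 hy, rfl⟩
    rw [hinf, ← MonoidHom.map_closure, ← Subgroup.map_sup, P.closure_sup]
  mul_mem_union := by
    rintro _ ⟨s, hs', rfl⟩ _ ⟨n, hn, rfl⟩ _ ⟨b, hb, rfl⟩
    rcases P.mul_mem_union s hs' n hn b hb with h | h
    · left
      obtain ⟨x, hx, y, hy, e⟩ := DoubleCoset.mem_doubleCoset.1 h
      exact DoubleCoset.mem_doubleCoset.2 ⟨f x, ⟨x, hx, rfl⟩, f y, ⟨y, hy, rfl⟩, by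
        rw [← map_mul, ← map_mul, e]; simp⟩
    · right
      obtain ⟨x, hx, y, hy, e⟩ := DoubleCoset.mem_doubleCoset.1 h
      exact DoubleCoset.mem_doubleCoset.2 ⟨f x, ⟨x, hx, rfl⟩, f y, ⟨y, hy, rfl⟩, by
        rw [← map_mul, ← map_mul, e]; simp⟩
  conj_ne := by
    rintro _ ⟨s, hs', rfl⟩ e
    refine P.conj_ne s hs' (Set.Subset.antisymm ?_ ?_)
    · rintro _ ⟨b, hb, rfl⟩
      refine (map_mem_B f hker hs).1 ?_
      show f (s * b * s) ∈ ((P.B.map f : Subgroup H) : Set H)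
      rw [← e]
      exact ⟨f b, ⟨b, hb, rfl⟩, by simp⟩
    · intro c hc
      have : f c ∈ ((P.B.map f : Subgroup H) : Set H) := ⟨c, hc, rfl⟩
      rw [← e] at this
      obtain ⟨y, hy, ey⟩ := this
      refine ⟨s⁻¹ * c * s⁻¹, (map_mem_B f hker hs).1 ?_, by group⟩
      rw [map_mul, map_mul, map_inv, ← ey]
      simpa [mul_assoc] using hy

include hf in
theorem split_map [Fact p.Prime] : BNSteinberg.Split (mapPair f hf hker hs) p (U.map f) where
  le := Subgroup.map_mono hs.le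
  normal := by
    rintro _ ⟨b, hb, rfl⟩ _ ⟨u, hu, rfl⟩
    exact ⟨_, hs.normal b hb u hu, by simp⟩
  pgroup := hs.pgroup.map f
  decomp := by
    rintro _ ⟨b, hb, rfl⟩
    obtain ⟨u, hu, h, hh, rfl⟩ := hs.decomp b hb
    exact ⟨f u, ⟨u, hu, rfl⟩, f h, (map_mem_torus f hker hs).2 hh, map_mul f u h⟩
  torus := by
    intro y hy k hk
    obtain ⟨h, rfl⟩ := hf y
    have hh := (map_mem_torus f hker hs).1 hy
    rw [← map_pow] at hk
    have hz : h ^ p ^ k ∈ Subgroup.center G := hker hk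
    set d := Nat.card (Subgroup.center G) with hd
    have h1 : (h ^ d) ^ p ^ k = 1 := by
      rw [← pow_mul, mul_comm, pow_mul]
      exact congrArg Subtype.val (pow_card_eq_one' (x := (⟨_, hz⟩ : Subgroup.center G)))
    have h2 := hs.torus _ (pow_mem hh d) k h1
    have hcop : Nat.Coprime (p ^ k) d :=
      Nat.Coprime.pow_left _ ((Fact.out : p.Prime).coprime_iff_not_dvd.2 hs.center_coprime)
    have h3 : f h ^ d = 1 := by rw [← map_pow, h2, map_one]
    have h4 : f h ^ (p ^ k) = 1 := by rw [← map_pow]; exact hk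
    have := pow_gcd_eq_one.2 ⟨h4, h3⟩
    rwa [hcop, pow_one] at this
  rankone := by
    rintro _ ⟨s, hs', rfl⟩ _ ⟨u, hu, rfl⟩ _ ⟨d, hd, rfl⟩ h
    have h' : f (s⁻¹ * d * s) ∈ P.B.map f := by rw [map_mul, map_mul, map_inv]; exact h
    exact ⟨_, hs.rankone s hs' u hu d hd ((map_mem_B f hker hs).1 h'), by simp⟩
  opp := by
    obtain ⟨n, hn, hopp⟩ := hs.opp
    refine ⟨f n, ⟨n, hn, rfl⟩, ?_⟩
    rintro _ ⟨u, hu, rfl⟩ h
    have h' : f (n⁻¹ * u * n) ∈ P.B.map f := by rw [map_mul, map_mul, map_inv]; exact h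
    rw [hopp u hu ((map_mem_B f hker hs).1 h'), map_one]

end Map

/-- A split Tits system passes to a central quotient. -/
theorem HasSplit.map {H : Type v} [Group H] [Finite H] [hp : Fact p.Prime] (h : HasSplit p G)
    (f : G →* H) (hf : Function.Surjective f) (hker : f.ker ≤ Subgroup.center G) :
    HasSplit p H := by
  obtain ⟨P, U, hs, hU⟩ := h
  refine ⟨mapPair f hf hker hs, U.map f, split_map f hf hker hs, fun hbot => hU ?_⟩
  rw [eq_bot_iff]
  intro u hu
  have hz : f u = 1 := Subgroup.mem_bot.1 (hbot ▸ ⟨u, hu, rfl⟩)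
  have h1 := ker_le_torus f hker hs hz
  obtain ⟨k, hk⟩ := hs.pgroup ⟨u, hu⟩
  exact Subgroup.mem_bot.2 (hs.torus u h1 k (congrArg Subtype.val hk))

/-- A split Tits system passes along an isomorphism. -/
theorem HasSplit.congr {H : Type v} [Group H] [Finite H] [Fact p.Prime] (h : HasSplit p G)
    (e : G ≃* H) : HasSplit p H :=
  h.map e.toMonoidHom e.surjective (by rw [MonoidHom.ker_eq_bot e.toMonoidHom e.injective]; exact bot_le)

/-- A split Tits system passes to a group isomorphic to a quotient by the centre. -/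
theorem HasSplit.quot_center {H : Type v} [Group H] [Finite H] [Fact p.Prime] (h : HasSplit p G)
    (e : H ≃* G ⧸ Subgroup.center G) : HasSplit p H := by
  refine HasSplit.congr (h.map (QuotientGroup.mk' (Subgroup.center G))
    (QuotientGroup.mk'_surjective _) ?_) e.symm
  rw [QuotientGroup.ker_mk']

/-! ### Normal subgroups of index prime to `p` -/

section Normal

variable (M : Subgroup G) [hM : M.Normal] (hs : BNSteinberg.Split P p U) (hUM : U ≤ M)
include hs hUM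

theorem exists_gen_rep {s : G} (hsS : s ∈ P.S) : ∃ r, r ∈ M ∧ r ∈ P.N ∧ Eqv P s r := by
  obtain ⟨u, hu, hne⟩ := exists_U_moved hs hsS
  have hv : s⁻¹ * u * s ∈ M := by
    have := hM.conj_mem u (hUM hu) s⁻¹
    rwa [inv_inv] at this
  obtain ⟨r, hr, hrN, he, -⟩ :=
    exists_rep_mem hs hUM (s_mem_N hsS) hv (conj_mem_cell_s hsS (hs.le hu) hne)
  exact ⟨r, hr, hrN, he⟩

/-- The representative of a generator in the normal subgroup. -/
noncomputable def genRep (s : G) (hsS : s ∈ P.S) : M :=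
  ⟨_, (exists_gen_rep M hs hUM hsS).choose_spec.1⟩

theorem genRep_mem {s : G} (hsS : s ∈ P.S) : (genRep M hs hUM s hsS : G) ∈ P.N :=
  (exists_gen_rep M hs hUM hsS).choose_spec.2.1

theorem genRep_eqv {s : G} (hsS : s ∈ P.S) : Eqv P s (genRep M hs hUM s hsS : G) :=
  (exists_gen_rep M hs hUM hsS).choose_spec.2.2

theorem exists_word_rep {n : G} (hn : n ∈ P.N) :
    ∃ r ∈ Subgroup.closure {x : M | ∃ s hsS, x = genRep M hs hUM s hsS}, Eqv P n (r : G) := by
  obtain ⟨l, hl, he⟩ := exists_word (P := P) hn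
  suffices H : ∀ l : List G, IsWord P l →
      ∃ r ∈ Subgroup.closure {x : M | ∃ s hsS, x = genRep M hs hUM s hsS}, Eqv P l.prod (r : G) by
    obtain ⟨r, hr, hre⟩ := H l hl
    exact ⟨r, hr, he.symm.trans hre⟩
  intro l hl
  induction l with
  | nil => exact ⟨1, one_mem _, by simpa using Eqv.refl (P := P) 1⟩
  | cons s l ih =>
    have hsS : s ∈ P.S := hl s (by simp)
    have hlw : IsWord P l := hl.sublist (List.sublist_cons_self s l)
    obtain ⟨r, hr, hre⟩ := ih hlw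
    refine ⟨genRep M hs hUM s hsS * r, mul_mem (Subgroup.subset_closure ⟨s, hsS, rfl⟩) hr, ?_⟩
    rw [List.prod_cons, Subgroup.coe_mul]
    exact ((genRep_eqv M hs hUM hsS).mul_right hlw.prod_mem).trans (hre.mul_left _)

/-- The Tits system on a normal subgroup containing `U`. -/
noncomputable def normalPair : Cfsg.BNPair M where
  B := P.B.subgroupOf M
  N := P.N.subgroupOf M
  S := {x : M | ∃ s hsS, x = genRep M hs hUM s hsS}
  sup_eq_top := by
    refine top_le_iff.1 fun x _ => ?_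
    obtain ⟨n, hn, hxn⟩ := exists_cell (P := P) (x : G)
    obtain ⟨r, hr, hrN, -, u, hu, u', hu', e⟩ := exists_rep_mem hs hUM hn x.2 hxn
    have e' : x = (⟨u, hUM hu⟩ : M) * ⟨r, hr⟩ * ⟨u', hUM hu'⟩ := Subtype.ext e
    rw [e']
    refine mul_mem (mul_mem (Subgroup.mem_sup_left ?_) (Subgroup.mem_sup_right ?_))
      (Subgroup.mem_sup_left ?_)
    · exact Subgroup.mem_subgroupOf.2 (hs.le hu)
    · exact Subgroup.mem_subgroupOf.2 hrN
    · exact Subgroup.mem_subgroupOf.2 (hs.le hu')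
  conj_mem := fun n hn t ht =>
    Subgroup.mem_subgroupOf.2 (P.conj_mem _ hn (t : G) ⟨ht.1, ht.2⟩)
  subset := by
    rintro _ ⟨s, hsS, rfl⟩
    exact genRep_mem M hs hUM hsS
  sq_mem := by
    rintro _ ⟨s, hsS, rfl⟩
    refine Subgroup.mem_subgroupOf.2 ?_
    have he := genRep_eqv M hs hUM hsS
    have h1 : Eqv P (s * s) ((genRep M hs hUM s hsS : G) * (genRep M hs hUM s hsS : G)) :=
      (he.mul_right (s_mem_N hsS)).trans (he.mul_left _)
    exact (eqv_one_iff.1 ((eqv_one_iff.2 (sq_mem_H hsS)).trans h1)).1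
  inj := by
    rintro _ ⟨s, hsS, rfl⟩ _ ⟨s', hsS', rfl⟩ h
    have h1 : Eqv P s s' := (genRep_eqv M hs hUM hsS).trans
      ((eqv_of_mem (genRep_mem M hs hUM hsS) (genRep_mem M hs hUM hsS') h).trans
        (genRep_eqv M hs hUM hsS').symm)
    obtain rfl := P.inj s hsS s' hsS' h1.1
    rfl
  closure_sup := by
    refine le_antisymm (sup_le ((Subgroup.closure_le _).2 ?_) inf_le_right) fun x hx => ?_
    · rintro _ ⟨s, hsS, rfl⟩
      exact genRep_mem M hs hUM hsS
    obtain ⟨r, hr, he⟩ := exists_word_rep M hs hUM (Subgroup.mem_subgroupOf.1 hx)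
    have e : x = r * (r⁻¹ * x) := by group
    rw [e]
    refine mul_mem (Subgroup.mem_sup_left hr) (Subgroup.mem_sup_right ?_)
    exact ⟨he.symm.1, he.symm.2⟩
  mul_mem_union := by
    rintro _ ⟨s, hsS, rfl⟩ n hn b hb
    have hrN := genRep_mem M hs hUM hsS
    have he := genRep_eqv M hs hUM hsS
    set r := genRep M hs hUM s hsS
    have main : ∀ m : M, (m : G) ∈ P.N → ((r * b * n : M) : G) ∈ cell P (m : G) →
        r * b * n ∈ DoubleCoset.doubleCoset m (P.B.subgroupOf M : Set M) (P.B.subgroupOf M) := by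
      intro m hmN hcell
      obtain ⟨q, hq, hqN, heq, u, hu, u', hu', e⟩ :=
        exists_rep_mem hs hUM hmN (r * b * n : M).2 hcell
      refine DoubleCoset.mem_doubleCoset.2 ⟨⟨u, hUM hu⟩, Subgroup.mem_subgroupOf.2 (hs.le hu),
        m⁻¹ * ⟨q, hq⟩ * ⟨u', hUM hu'⟩, Subgroup.mem_subgroupOf.2 ?_, Subtype.ext ?_⟩
      · exact mul_mem heq.1 (hs.le hu')
      · rw [e]
        simp [mul_assoc]
    have hb' : (b : G) ∈ P.B := hb
    obtain ⟨c₁, hc₁, c₂, hc₂, hr⟩ :=
      mem_cell.1 (show (r : G) ∈ cell P s by rw [he.cell_eq]; exact mem_cell_self _)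
    have hval : ((r * b * n : M) : G) = c₁ * (s * (c₂ * b) * n) := by
      rw [Subgroup.coe_mul, Subgroup.coe_mul, hr]; group
    rcases P.mul_mem_union s hsS (n : G) hn (c₂ * b) (mul_mem hc₂ hb') with h | h
    · refine Or.inl (main (r * n) (mul_mem hrN hn) ?_)
      rw [Subgroup.coe_mul M r n, ← (he.mul_right (show (n : G) ∈ P.N from hn)).cell_eq, hval]
      exact mul_mem_cell hc₁ h
    · refine Or.inr (main n hn ?_)
      rw [hval]
      exact mul_mem_cell hc₁ h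
  conj_ne := by
    rintro _ ⟨s, hsS, rfl⟩ e
    have hrN := genRep_mem M hs hUM hsS
    have he := genRep_eqv M hs hUM hsS
    set r := genRep M hs hUM s hsS
    obtain ⟨u, hu, hne⟩ := exists_U_moved hs hsS
    have hrr : (r : G) * r ∈ P.B := (eqv_one_iff.1 ((eqv_one_iff.2 (sq_mem_H hsS)).trans
      ((he.mul_right (s_mem_N hsS)).trans (he.mul_left _)))).1
    have hmem : (r * r)⁻¹ * (⟨u, hUM hu⟩ : M) ∈ P.B.subgroupOf M :=
      Subgroup.mem_subgroupOf.2 (mul_mem (inv_mem hrr) (hs.le hu))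
    have h1 : r * ((r * r)⁻¹ * (⟨u, hUM hu⟩ : M)) * r ∈ (P.B.subgroupOf M : Set M) := by
      rw [← e]; exact ⟨_, hmem, rfl⟩
    have h2 : (r : G)⁻¹ * u * r ∈ P.B := by
      have := Subgroup.mem_subgroupOf.1 h1
      simpa [mul_assoc] using this
    apply hne
    have hh : (r : G)⁻¹ * s ∈ P.B := he.symm.1
    rw [show s⁻¹ * u * s = ((r : G)⁻¹ * s)⁻¹ * ((r : G)⁻¹ * u * r) * ((r : G)⁻¹ * s) by group]
    exact mul_mem (mul_mem (inv_mem hh) h2) hh

theorem split_normal : BNSteinberg.Split (normalPair M hs hUM) p (U.subgroupOf M) where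
  le := fun _ hx => hs.le hx
  normal := fun b hb u hu => hs.normal _ hb _ hu
  pgroup := hs.pgroup.comap_of_injective M.subtype M.subtype_injective
  decomp := by
    intro b hb
    obtain ⟨u, hu, h, hh, e⟩ := hs.decomp (b : G) hb
    have hhM : h ∈ M := by
      rw [show h = u⁻¹ * (u * h) by group, ← e]; exact mul_mem (inv_mem (hUM hu)) b.2
    exact ⟨⟨u, hUM hu⟩, hu, ⟨h, hhM⟩, ⟨hh.1, hh.2⟩, Subtype.ext e⟩
  torus := fun h hh k hk =>
    Subtype.ext (hs.torus _ ⟨hh.1, hh.2⟩ k (by simpa using congrArg Subtype.val hk))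
  rankone := by
    rintro _ ⟨s, hsS, rfl⟩ u hu d hd h
    have he := genRep_eqv M hs hUM hsS
    set r := genRep M hs hUM s hsS
    have hh : (r : G)⁻¹ * s ∈ P.B := he.symm.1
    have h0 : (r : G)⁻¹ * d * r ∈ P.B := h
    have h1 : s⁻¹ * (d : G) * s ∈ P.B := by
      rw [show s⁻¹ * (d : G) * s = ((r : G)⁻¹ * s)⁻¹ * ((r : G)⁻¹ * d * r) * ((r : G)⁻¹ * s) by group]
      exact mul_mem (mul_mem (inv_mem hh) h0) hh
    have h2 := hs.rankone s hsS _ hu _ hd h1
    show (r : G)⁻¹ * ((u : G) * d * (u : G)⁻¹) * r ∈ P.B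
    rw [show (r : G)⁻¹ * ((u : G) * d * (u : G)⁻¹) * r =
      ((r : G)⁻¹ * s) * (s⁻¹ * ((u : G) * d * (u : G)⁻¹) * s) * ((r : G)⁻¹ * s)⁻¹ by group]
    exact mul_mem (mul_mem hh h2) (inv_mem hh)
  opp := by
    obtain ⟨n, hn, hopp⟩ := hs.opp
    obtain ⟨r, -, he⟩ := exists_word_rep M hs hUM hn
    refine ⟨r, he.mem_N hn, fun u hu h => Subtype.ext (hopp _ hu ?_)⟩
    have hh : (r : G)⁻¹ * n ∈ P.B := he.symm.1
    rw [show n⁻¹ * (u : G) * n = ((r : G)⁻¹ * n)⁻¹ * ((r : G)⁻¹ * u * r) * ((r : G)⁻¹ * n) by group]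
    exact mul_mem (mul_mem (inv_mem hh) h) hh

end Normal

/-- A split Tits system passes to a normal subgroup of index prime to `p`. -/
theorem HasSplit.normal [hp : Fact p.Prime] (h : HasSplit p G) (M : Subgroup G) [M.Normal]
    (hidx : ¬ p ∣ M.index) : HasSplit p M := by
  obtain ⟨P, U, hs, hU⟩ := h
  have hUM : U ≤ M := by
    intro u hu
    obtain ⟨k, hk⟩ := hs.pgroup ⟨u, hu⟩
    have hk' : u ^ p ^ k = 1 := congrArg Subtype.val hk
    have h1 : ((u : G ⧸ M)) ^ p ^ k = 1 := by rw [← QuotientGroup.mk_pow, hk']; rfl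
    have h2 : ((u : G ⧸ M)) ^ M.index = 1 := by
      rw [Subgroup.index]; exact pow_card_eq_one'
    have hcop : Nat.Coprime (p ^ k) M.index :=
      Nat.Coprime.pow_left _ (hp.out.coprime_iff_not_dvd.2 hidx)
    have := pow_gcd_eq_one.2 ⟨h1, h2⟩
    rw [hcop, pow_one] at this
    exact (QuotientGroup.eq_one_iff u).1 this
  refine ⟨normalPair M hs hUM, U.subgroupOf M, split_normal M hs hUM, fun hbot => hU ?_⟩
  rw [Subgroup.subgroupOf_eq_bot, disjoint_iff, inf_eq_left.2 hUM] at hbot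
  exact hbot

end CfsgLib.SplitBN
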