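import Cfsg.Agent.Lib.SplitBN.Perm
import Cfsg.Agent.Lib.SplitBN.Classical
import Cfsg.Agent.Lib.SplitBN.Minus
import Cfsg.Agent.Lib.SplitBN.Linear

/-!
# The diagrams of the classical split Tits systems
-/

set_option autoImplicit false
set_option linter.unusedSectionVars false

namespace CfsgLib.SplitBN

open CfsgLib.Chev.BN

/-- A branched diagram read off permutations attached to the letters. -/
theorem branch_of_perms {G : Type*} [Group G] (P : Cfsg.BNPair G) {ι α : Type*} (r : ι → G)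
    (π : ι → Equiv.Perm α) (hS : P.S = Set.range r)
    (hE : ∀ i j, Eqv P (r i * r j) (r j * r i) ↔ π i * π j = π j * π i)
    (hinj : ∀ i j, r i = r j → i = j)
    (e m b : ι) (heb : e ≠ b) (hme : π m * π e ≠ π e * π m) (hmb : π m * π b ≠ π b * π m)
    (huniq : ∀ i, i ≠ m → π e * π i = π i * π e) : Branch P := by
  have mem : ∀ i, r i ∈ P.S := fun i => hS ▸ Set.mem_range_self i
  refine ⟨r e, mem e, r m, mem m, r e, mem e, r b, mem b, fun h => heb (hinj _ _ h),
    fun h => hme ((hE m e).1 h), fun h => hmb ((hE m b).1 h), ?_⟩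
  intro x hx y hy h1 h2
  rw [hS] at hx hy
  obtain ⟨i, rfl⟩ := hx
  obtain ⟨j, rfl⟩ := hy
  have hi : i = m := by
    by_contra hne
    exact h1 ((hE e i).2 (huniq i hne))
  have hj : j = m := by
    by_contra hne
    exact h2 ((hE e j).2 (huniq j hne))
  rw [hi, hj]

open CfsgLib.TwistBN

/-- The first reflection commutes with permutations fixing its four points. -/
theorem tPerm_zero_comm {n : ℕ} (hn : 2 * 0 + 2 ≤ n) {ρ : Equiv.Perm (Fin n)}
    (hρ : ∀ x : Fin n, x.val = 0 ∨ x.val = 1 ∨ x.val = n - 2 ∨ x.val = n - 1 → ρ x = x) :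
    tPerm 0 hn * ρ = ρ * tPerm 0 hn := by
  refine Equiv.Perm.Disjoint.commute (fun x => ?_)
  by_cases h : x.val = 0 ∨ x.val = 1 ∨ x.val = n - 2 ∨ x.val = n - 1
  · exact Or.inr (hρ x h)
  · push Not at h
    refine Or.inl (Fin.ext ?_)
    rw [tPerm_val]
    exact tVal_other hn h.1 (by simpa using h.2.1) (by simpa using h.2.2.1) (by simpa using h.2.2.2)

/-- The first two reflections do not commute. -/
theorem tPerm_one_zero {n : ℕ} (hn : 6 ≤ n) :
    tPerm (n := n) 1 (by omega) * tPerm 0 (by omega) ≠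
      tPerm 0 (by omega) * tPerm 1 (by omega) := fun h => by
  have a0 : tPerm (n := n) 0 (by omega) ⟨0, by omega⟩ = ⟨1, by omega⟩ := Fin.ext (by
    rw [tPerm_val, tVal_k (by omega)]; simp only; split_ifs <;> omega)
  have a1 : tPerm (n := n) 1 (by omega) ⟨1, by omega⟩ = ⟨2, by omega⟩ := Fin.ext (by
    rw [tPerm_val, tVal_k (by omega)]; simp only; split_ifs <;> omega)
  have b1 : tPerm (n := n) 1 (by omega) ⟨0, by omega⟩ = ⟨0, by omega⟩ := Fin.ext (by
    rw [tPerm_val]
    simp only [tVal]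
    split_ifs <;> omega)
  have := congrArg (fun g : Equiv.Perm (Fin n) => (g ⟨0, by omega⟩).val) h
  simp [Equiv.Perm.mul_apply, a0, a1, b1] at this

/-- The second reflection does not commute with one fixing `1` and moving `2`. -/
theorem tPerm_one_ne {n : ℕ} (hn : 6 ≤ n) {ρ : Equiv.Perm (Fin n)}
    (h1 : ρ ⟨1, by omega⟩ = ⟨1, by omega⟩) (h2 : ρ ⟨2, by omega⟩ ≠ ⟨2, by omega⟩) :
    tPerm (n := n) 1 (by omega) * ρ ≠ ρ * tPerm 1 (by omega) := fun h => by
  have e : tPerm (n := n) 1 (by omega) ⟨1, by omega⟩ = ⟨2, by omega⟩ := Fin.ext (by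
    rw [tPerm_val]; simp only [tVal]; split_ifs <;> omega)
  have := congrArg (fun g : Equiv.Perm (Fin n) => g ⟨1, by omega⟩) h
  simp only [Equiv.Perm.mul_apply, h1, e] at this
  exact h2 this.symm

theorem tPerm_fix_low {n k : ℕ} (hk : 2 * k + 2 ≤ n) (h2 : 2 ≤ k) (x : Fin n)
    (hx : x.val = 0 ∨ x.val = 1 ∨ x.val = n - 2 ∨ x.val = n - 1) : tPerm k hk x = x :=
  Fin.ext (by rw [tPerm_val]; exact tVal_other hk (by omega) (by omega) (by omega) (by omega))

variable {F : Type*} [Field F] [Fintype F] {p : ℕ} [hp : Fact p.Prime] [CharP F p]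

open Matrix CfsgLib.PronormalPSL CfsgLib.PronormalPSU CfsgLib.Fusion.UniTri in
theorem fixS_eqv {n : ℕ} {d : Fin n → Fˣ} {σ : F ≃+* F} (hC : TwistBN.Ctx d σ)
    (i j : {k : ℕ // 2 * k + 2 ≤ n}) :
    Eqv (TwistBN.bnPair hC) (sRep hC i.1 i.2 * sRep hC j.1 j.2)
        (sRep hC j.1 j.2 * sRep hC i.1 i.2) ↔
      tPerm i.1 i.2 * tPerm j.1 j.2 = tPerm j.1 j.2 * tPerm i.1 i.2 := by
  set a := sRep hC i.1 i.2 * sRep hC j.1 j.2
  set b := sRep hC j.1 j.2 * sRep hC i.1 i.2
  have ha : Mono (tPerm i.1 i.2 * tPerm j.1 j.2) (a : GL (Fin n) F).1 :=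
    mono_mul (sRep_mono hC i.2) (sRep_mono hC j.2)
  have hb : Mono (tPerm j.1 j.2 * tPerm i.1 i.2) (b : GL (Fin n) F).1 :=
    mono_mul (sRep_mono hC j.2) (sRep_mono hC i.2)
  have h := mono_mul (Mono.inv ha) hb
  constructor
  · intro he
    have e := perm_one_of_upper h he.1
    exact inv_mul_eq_one.1 e
  · intro he
    rw [he, inv_mul_cancel] at h
    exact mem_torus.2 h

theorem hasBranch_fixS {n : ℕ} {d : Fin n → Fˣ} {σ : F ≃+* F} (hC : TwistBN.Ctx d σ) (hn : 6 ≤ n) :
    HasBranch p (TwistBN.fixS d σ) := by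
  refine ⟨_, _, TwistBN.split hC p, ?_⟩
  refine branch_of_perms _ (fun k : {k : ℕ // 2 * k + 2 ≤ n} => sRep hC k.1 k.2)
    (fun k => tPerm k.1 k.2) rfl (fixS_eqv hC) (fun i j h => ?_) ⟨0, by omega⟩ ⟨1, by omega⟩
    ⟨2, by omega⟩ (by simp) (tPerm_one_zero hn) (tPerm_one_ne hn ?_ ?_) fun i hi => ?_
  · have hm := sRep_mono hC i.2
    rw [show sRep hC i.1 i.2 = sRep hC j.1 j.2 from h] at hm
    exact Subtype.ext (tPerm_inj i.2 j.2 (mono_perm_unique hm (sRep_mono hC j.2)))
  · exact tPerm_fix_low _ le_rfl _ (Or.inr (Or.inl rfl))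
  · intro h
    have := congrArg Fin.val h
    simp only [tPerm_val, tVal] at this
    split_ifs at this <;> omega
  · obtain ⟨k, hk⟩ := i
    rcases Nat.lt_or_ge k 2 with h | h
    · obtain rfl : k = 0 := by
        have : k ≠ 1 := fun e => hi (Subtype.ext e)
        omega
      rfl
    · exact tPerm_zero_comm _ (tPerm_fix_low hk h)

theorem hasBranch_psu {n q : ℕ} (hF : Fintype.card F = q ^ 2) (hn : 6 ≤ n) :
    HasBranch p (Cfsg.PSU n F q) := by
  obtain ⟨d, σ, hC, ⟨e⟩⟩ := TwistBN.su_equiv (n := n) hF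
  exact ((hasBranch_fixS (p := p) hC hn).congr e.symm).map _ (QuotientGroup.mk'_surjective _)
    (by rw [QuotientGroup.ker_mk'])

theorem hasBranch_psp {m : ℕ} (hm : 3 ≤ m) : HasBranch p (Cfsg.PSp m F) := by
  obtain ⟨d, hC, ⟨e⟩⟩ := TwistBN.sp_equiv (F := F) m
  exact ((hasBranch_fixS (p := p) hC (by omega)).congr e.symm).map _
    (QuotientGroup.mk'_surjective _) (by rw [QuotientGroup.ker_mk'])

theorem hasBranch_pomega_odd (hodd : Odd (Fintype.card F)) {m : ℕ} (hm : 3 ≤ m) :
    HasBranch p (Cfsg.POmega F (Cfsg.quadFormOdd m F)) := by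
  obtain ⟨hp2, hC, N, hN, ⟨e⟩⟩ := TwistBN.omega_odd_equiv p hodd m (by omega)
  have : N.Normal := Subgroup.normal_of_index_eq_two hN
  exact (((hasBranch_fixS (p := p) hC (by omega)).normal N (by rw [hN]; exact not_dvd_two hp2)).congr
    e.symm).map _ (QuotientGroup.mk'_surjective _) (by rw [QuotientGroup.ker_mk'])

section Plus

open Matrix CfsgLib.PronormalPSL CfsgLib.PronormalPSU CfsgLib.Fusion.UniTri
open CfsgLib.TwistBN.Plus

theorem tRho_fix {m : ℕ} (hm : 4 ≤ m) (x : Fin (2 * m))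
    (hx : x.val = 0 ∨ x.val = 1 ∨ x.val = 2 * m - 2 ∨ x.val = 2 * m - 1) :
    tRho m (by omega) x = x := by
  have h1 : rho m x = x := Fin.ext (by rw [rho_val]; split_ifs <;> omega)
  have h2 : tPerm (n := 2 * m) (m - 2) (by omega) x = x := Fin.ext (by
    rw [tPerm_val]; exact tVal_other (by omega) (by omega) (by omega) (by omega) (by omega))
  simp only [tRho, Equiv.Perm.mul_apply, h1, h2]

theorem hasBranch_GP {m : ℕ} (hm : 4 ≤ m) : HasBranch p (GP F m) := by
  refine ⟨_, _, TwistBN.Plus.split (F := F) (m := m) p, ?_⟩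
  refine branch_of_perms _ (fun i : Idx m => (⟨pP F (tD i), refl_mem_GP i⟩ : GP F m))
    (fun i => tD i) rfl (fun i j => ?_) (fun i j h => ?_) ⟨⟨0, by omega⟩, by omega⟩
    ⟨⟨1, by omega⟩, by omega⟩ ⟨⟨2, by omega⟩, by omega⟩ (by simp) ?_ ?_ fun i hi => ?_
  · constructor
    · intro he
      have h' : (pP F (tD i) * pP F (tD j))⁻¹ * (pP F (tD j) * pP F (tD i)) ∈ BO F m := he.1
      rw [← pP_mul, ← pP_mul, pP, pP, ← map_inv, ← map_mul] at h'
      exact inv_mul_eq_one.1 (perm_one_of_upper (mono_permGL (F := F) _) h'.1)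
    · intro he
      have h' : (⟨pP F (tD i), refl_mem_GP i⟩ : GP F m) * ⟨pP F (tD j), refl_mem_GP j⟩ =
          ⟨pP F (tD j), refl_mem_GP j⟩ * ⟨pP F (tD i), refl_mem_GP i⟩ :=
        Subtype.ext (show pP F (tD i) * pP F (tD j) = pP F (tD j) * pP F (tD i) by
          rw [← pP_mul, ← pP_mul, he])
      rw [h']
      exact Eqv.refl _
  · have h' : pP F (tD i) = pP F (tD j) := congrArg Subtype.val h
    have hm' := mono_permGL (F := F) (tD i)
    rw [show CfsgLib.GLUnipotent.permGL (2 * m) F (tD i) = CfsgLib.GLUnipotent.permGL (2 * m) F (tD j) from h'] at hm'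
    exact tD_inj (mono_perm_unique hm' (mono_permGL (F := F) (tD j)))
  · simp only [tD, dif_pos (show 1 + 1 < m by omega), dif_pos (show 0 + 1 < m by omega)]
    exact tPerm_one_zero (by omega)
  · simp only [tD, dif_pos (show 1 + 1 < m by omega), dif_pos (show 2 + 1 < m by omega)]
    refine tPerm_one_ne (by omega) (tPerm_fix_low _ le_rfl _ (Or.inr (Or.inl rfl))) fun h => ?_
    have := congrArg Fin.val h
    simp only [tPerm_val, tVal] at this
    split_ifs at this <;> omega
  · obtain ⟨⟨k, hkm⟩, h2⟩ := i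
    rcases Nat.lt_or_ge k 2 with h | h
    · obtain rfl : k = 0 := by
        have : k ≠ 1 := fun e => hi (Subtype.ext (Fin.ext e))
        omega
      rfl
    · simp only [tD, dif_pos (show 0 + 1 < m by omega)]
      refine tPerm_zero_comm _ fun x hx => ?_
      split_ifs with hk
      · exact tPerm_fix_low _ h x hx
      · exact tRho_fix hm x hx

theorem hasBranch_pomega_plus {m : ℕ} (hm : 4 ≤ m) :
    HasBranch p (Cfsg.POmega F (Cfsg.quadFormPlus m F)) := by
  rcases TwistBN.Plus.omega_plus_equiv (F := F) p m (by omega) (fun h => by omega) with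
    he | ⟨hp2, M, hM, ⟨e⟩⟩
  · exact ((hasBranch_GP (p := p) hm).congr he.some.symm).map _ (QuotientGroup.mk'_surjective _)
      (by rw [QuotientGroup.ker_mk'])
  · have : M.Normal := Subgroup.normal_of_index_eq_two hM
    exact (((hasBranch_GP (p := p) hm).normal M (by rw [hM]; exact not_dvd_two hp2)).congr
      e.symm).map _ (QuotientGroup.mk'_surjective _) (by rw [QuotientGroup.ker_mk'])

open CfsgLib.TwistBN.Minus

theorem hasBranch_GM {m : ℕ} (hm : 4 ≤ m) (σ : F ≃+* F) : HasBranch p (GM m σ) := by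
  refine ⟨_, _, TwistBN.Minus.split (m := m) (σ := σ) p, ?_⟩
  refine branch_of_perms _ (fun i : Minus.Idx m => (⟨pP F (tF i), refl_mem_GM σ i⟩ : GM m σ))
    (fun i => tF i) rfl (fun i j => ?_) (fun i j h => ?_) ⟨⟨0, by omega⟩, show 0 + 1 < m by omega⟩
    ⟨⟨1, by omega⟩, show 1 + 1 < m by omega⟩ ⟨⟨2, by omega⟩, show 2 + 1 < m by omega⟩ (by simp) ?_ ?_
    fun i hi => ?_
  · constructor
    · intro he
      have h' : (pP F (tF i) * pP F (tF j))⁻¹ * (pP F (tF j) * pP F (tF i)) ∈ BM m σ := he.1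
      rw [← pP_mul, ← pP_mul, pP, pP, ← map_inv, ← map_mul] at h'
      exact inv_mul_eq_one.1 (perm_one_of_upper (mono_permGL (F := F) _) h'.1.1)
    · intro he
      have h' : (⟨pP F (tF i), refl_mem_GM σ i⟩ : GM m σ) * ⟨pP F (tF j), refl_mem_GM σ j⟩ =
          ⟨pP F (tF j), refl_mem_GM σ j⟩ * ⟨pP F (tF i), refl_mem_GM σ i⟩ :=
        Subtype.ext (show pP F (tF i) * pP F (tF j) = pP F (tF j) * pP F (tF i) by
          rw [← pP_mul, ← pP_mul, he])
      rw [h']
      exact Eqv.refl _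
  · have h' : pP F (tF i) = pP F (tF j) := congrArg Subtype.val h
    have hm' := mono_permGL (F := F) (tF i)
    rw [show CfsgLib.GLUnipotent.permGL (2 * m) F (tF i) = CfsgLib.GLUnipotent.permGL (2 * m) F (tF j) from h'] at hm'
    exact tF_inj (mono_perm_unique hm' (mono_permGL (F := F) (tF j)))
  · simp only [tF, if_pos (show 1 + 2 < m by omega), if_pos (show 0 + 2 < m by omega)]
    exact tPerm_one_zero (by omega)
  · simp only [tF, if_pos (show 1 + 2 < m by omega)]
    split_ifs with hk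
    · refine tPerm_one_ne (by omega) (tPerm_fix_low _ le_rfl _ (Or.inr (Or.inl rfl))) fun h => ?_
      have := congrArg Fin.val h
      simp only [tPerm_val, tVal] at this
      split_ifs at this <;> omega
    · refine tPerm_one_ne (by omega) ?_ fun h => ?_
      · simp only [tMid, Equiv.Perm.mul_apply,
          tRho_fix hm (⟨1, by omega⟩ : Fin (2 * m)) (Or.inr (Or.inl rfl))]
        exact Fin.ext (by rw [tPerm_last_val (by omega)]; simp only; split_ifs <;> omega)
      · obtain rfl : m = 4 := by omega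
        have key : tMid 4 (by decide) (⟨2, by decide⟩ : Fin (2 * 4)) ≠ ⟨2, by decide⟩ := by
          decide +kernel
        exact key h
  · obtain ⟨⟨k, hkm⟩, h2⟩ := i
    rcases Nat.lt_or_ge k 2 with h | h
    · obtain rfl : k = 0 := by
        have : k ≠ 1 := fun e => hi (Subtype.ext (Fin.ext e))
        omega
      rfl
    · simp only [tF, if_pos (show 0 + 2 < m by omega)]
      refine tPerm_zero_comm _ fun x hx => ?_
      split_ifs with hk
      · exact tPerm_fix_low _ h x hx
      · simp only [tMid, Equiv.Perm.mul_apply, tRho_fix hm x hx]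
        exact Fin.ext (by rw [tPerm_last_val (by omega)]; split_ifs <;> omega)

theorem hasBranch_pomega_minus {m : ℕ} (hm : 3 ≤ m) {a b : F}
    (hab : ∀ z₁ z₂ : F, z₁ ^ 2 + a * z₁ * z₂ + b * z₂ ^ 2 = 0 → z₁ = 0 ∧ z₂ = 0) :
    HasBranch p (Cfsg.POmega F (Cfsg.quadFormMinus m F a b)) := by
  obtain ⟨K, _, _, _, -, σ, α, β, hfix, hsum, hprod, hne, hσα, hσβ⟩ :=
    TwistBN.Minus.exists_quadratic_extension (F := F) (a := a) (b := b) hab
  haveI : CharP K p := charP_of_injective_algebraMap (algebraMap F K).injective p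
  have hG := hasBranch_GM (F := K) (p := p) (show 4 ≤ m + 1 by omega) σ
  rcases TwistBN.Minus.omega_minus_equiv (p := p) m hab (fun h => by omega) σ hfix hsum hprod hne
    hσα hσβ with he | ⟨hp2, M, hM, ⟨e⟩⟩
  · exact (hG.congr he.some.symm).map _ (QuotientGroup.mk'_surjective _)
      (by rw [QuotientGroup.ker_mk'])
  · have : M.Normal := Subgroup.normal_of_index_eq_two hM
    exact ((hG.normal M (by rw [hM]; exact not_dvd_two hp2)).congr e.symm).map _
      (QuotientGroup.mk'_surjective _) (by rw [QuotientGroup.ker_mk'])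

end Plus

section Linear

open CfsgLib.KnownSimple.SLBlocks CfsgLib.SplitBN.Linear

variable [DecidableEq F] {m : ℕ}

theorem linear_eqv (i j : Fin m) :
    Eqv (slPair (F := F) (m := m) p) (nEl i * nEl j) (nEl j * nEl i) ↔
      Equiv.swap (sA i) (sB i) * Equiv.swap (sA j) (sB j) =
        Equiv.swap (sA j) (sB j) * Equiv.swap (sA i) (sB i) := by
  have h := (isMon_inv ((nEl_isMon (F := F) i).mul (nEl_isMon j))).mul
    ((nEl_isMon (F := F) j).mul (nEl_isMon i))
  constructor
  · intro he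
    exact inv_mul_eq_one.1 (perm_eq_one_of_borel h he.1)
  · intro he
    rw [he, inv_mul_cancel] at h
    exact mem_torus.2 fun r s hrs => h r s hrs

theorem slSplit_inj (i j : Fin m) :
    Eqv (slPair (F := F) (m := m) p) (nEl i) (nEl j) → i = j := fun h => by
  have e := perm_eq_one_of_borel ((nEl_inv_isMon (F := F) i).mul (nEl_isMon j)) h.1
  have h2 := Equiv.congr_fun e (sA j)
  rw [Equiv.Perm.mul_apply, Equiv.swap_apply_left, Equiv.Perm.one_apply] at h2
  rw [Equiv.swap_apply_def] at h2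
  simp only [sA, sB, Fin.ext_iff, Fin.val_castSucc, Fin.val_succ] at h2 ⊢
  split_ifs at h2 <;> simp only [Fin.val_castSucc, Fin.val_succ] at h2 <;> omega

theorem swap_adj_ne {m : ℕ} {i j : Fin m} (h : j.val = i.val + 1) :
    Equiv.swap (sA i) (sB i) * Equiv.swap (sA j) (sB j) ≠
      Equiv.swap (sA j) (sB j) * Equiv.swap (sA i) (sB i) := fun e => by
  have hb : sA j = sB i := Fin.ext (by simp [sA, sB, h])
  have n1 : sA i ≠ sA j := fun h' => by simp [sA, Fin.ext_iff, h] at h'
  have n2 : sA i ≠ sB j := fun h' => by simp [sA, sB, Fin.ext_iff, h] at h' <;> omega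
  have n3 : sB j ≠ sB i := fun h' => by simp [sB, Fin.ext_iff, h] at h'
  have := congrArg (fun g : Equiv.Perm _ => g (sA i)) e
  simp only [Equiv.Perm.mul_apply, Equiv.swap_apply_left,
    Equiv.swap_apply_of_ne_of_ne n1 n2] at this
  rw [← hb, Equiv.swap_apply_left] at this
  exact n3 (this.symm.trans hb)

theorem hasBranch_psl {n : ℕ} (hn : 4 ≤ n) :
    HasBranch p (Matrix.ProjectiveSpecialLinearGroup (Fin n) F) := by
  classical
  obtain ⟨m, rfl⟩ : ∃ m, n = m + 1 := ⟨n - 1, by omega⟩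
  have h : HasBranch p (Matrix.SpecialLinearGroup (Fin (m + 1)) F) := by
    refine ⟨_, _, slSplit (F := F) (m := m) p, ?_⟩
    refine branch_of_perms _ (nEl (F := F) (m := m)) (fun i => Equiv.swap (sA i) (sB i)) rfl
      linear_eqv (fun i j h => ?_) ⟨0, by omega⟩ ⟨1, by omega⟩ ⟨2, by omega⟩ (by simp)
      (Ne.symm (swap_adj_ne rfl)) (swap_adj_ne rfl) fun i hi => ?_
    · by_contra hne
      have h2 : Eqv (slPair (F := F) (m := m) p) (nEl (F := F) i) (nEl j) := by
        rw [h]; exact Eqv.refl _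
      exact hne ((slSplit_inj (p := p) i j) h2)
    · rcases Nat.lt_or_ge i.val 2 with h | h
      · have hi0 : i = ⟨0, by omega⟩ := Fin.ext (by
          have : i.val ≠ 1 := fun e => hi (Fin.ext e)
          simp only; omega)
        rw [hi0]
      · refine Equiv.Perm.Disjoint.commute fun x => ?_
        rcases eq_or_ne (Equiv.swap (sA (⟨0, by omega⟩ : Fin m)) (sB ⟨0, by omega⟩) x) x with hx | hx
        · exact Or.inl hx
        · right
          refine Equiv.swap_apply_of_ne_of_ne (fun e => hx ?_) (fun e => hx ?_) <;>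
            refine Equiv.swap_apply_of_ne_of_ne ?_ ?_ <;>
            · subst e
              simp [sA, sB, Fin.ext_iff] <;> omega
  exact h.map _ (QuotientGroup.mk'_surjective _) (by rw [QuotientGroup.ker_mk'])

theorem hasTwo_psl : HasTwo p (Matrix.ProjectiveSpecialLinearGroup (Fin 3) F) := by
  classical
  have h : HasTwo p (Matrix.SpecialLinearGroup (Fin (2 + 1)) F) := by
    refine ⟨_, _, nEl (F := F) (0 : Fin 2), nEl (1 : Fin 2), slSplit (F := F) (m := 2) p,
      ⟨0, rfl⟩, ⟨1, rfl⟩, fun h => ?_, ?_⟩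
    · have h2 : Eqv (slPair (F := F) (m := 2) p) (nEl (F := F) (0 : Fin 2)) (nEl 1) := by
        rw [h]; exact Eqv.refl _
      exact absurd ((slSplit_inj (p := p) 0 1) h2) (by decide)
    · rintro _ ⟨i, rfl⟩
      fin_cases i
      · exact Or.inl rfl
      · exact Or.inr rfl
  exact h.map _ (QuotientGroup.mk'_surjective _) (by rw [QuotientGroup.ker_mk'])

end Linear

end CfsgLib.SplitBN
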