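import Cfsg.Agent.Lib.SplitBN.BranchClassical
import Cfsg.Agent.Lib.SplitBN.Exceptional
import Cfsg.Agent.Lib.Known.TwAutD4
import Cfsg.Agent.Lib.Known.TwAutF4
import Cfsg.Agent.Lib.Known.ChevAutOut

/-!
# The diagrams of the exceptional split Tits systems
-/

set_option autoImplicit false
set_option linter.unusedSectionVars false

namespace CfsgLib.SplitBN

open Cfsg.Lie CfsgLib.Chev CfsgLib.Chev.BN

variable {K : Type} [Field K] [Fintype K] {p : ℕ} [hp : Fact p.Prime] [CharP K p]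

theorem chev_eqv {D : ChevalleyDatum} {co : ℕ → ℕ → ℤ} (hF : Facts D co) (hC : CommF.{0} D)
    (i j : Fin D.rank) :
    Eqv (hF.bnPair hC (K := K)) (BNSteinberg.el hF i.val * BNSteinberg.el hF j.val)
        (BNSteinberg.el hF j.val * BNSteinberg.el hF i.val) ↔
      sP D i * sP D j = sP D j * sP D i := by
  have hi := BNSteinberg.el_val (K := K) hF hC i.isLt
  have hj := BNSteinberg.el_val (K := K) hF hC j.isLt
  have hij := hF.permAct_mul (hF.permAct_nS (F := K) i) (hF.permAct_nS (F := K) j)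
  have hm := Subgroup.mul_mem _ (hF.nS_mem (F := K) i) (hF.nS_mem (F := K) j)
  have hji := hF.permAct_mul (hF.permAct_nS (F := K) j) (hF.permAct_nS (F := K) i)
  have hm' := Subgroup.mul_mem _ (hF.nS_mem (F := K) j) (hF.nS_mem (F := K) i)
  have h := hF.permAct_mul (hF.permAct_inv hm hij) hji
  constructor
  · intro he
    have hb : (((BNSteinberg.el hF i.val * BNSteinberg.el hF j.val)⁻¹ *
        (BNSteinberg.el hF j.val * BNSteinberg.el hF i.val) : ↥(D.group K)) : GL D.Idx K) ∈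
        D.borelSubgroup K := he.1
    simp only [Subgroup.coe_mul, Subgroup.coe_inv, hi, hj] at hb
    exact inv_mul_eq_one.1 (hF.permAct_pos h hb)
  · intro he
    rw [he, inv_mul_cancel] at h
    show (BNSteinberg.el hF i.val * BNSteinberg.el hF j.val)⁻¹ *
      (BNSteinberg.el hF j.val * BNSteinberg.el hF i.val) ∈ _
    rw [BNSteinberg.torus_eq hF hC, Subgroup.mem_subgroupOf]
    simp only [Subgroup.coe_mul, Subgroup.coe_inv, hi, hj]
    exact hF.mem_diagonal_of_permAct (Subgroup.mul_mem _ (Subgroup.inv_mem _ hm) hm') h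

theorem hasBranch_chev_of {D : ChevalleyDatum}
    (hD : D ∈ [chevG2, chevB2, chevD4, chevF4, chevE6, chevE7, chevE8]) (e m b : Fin D.rank)
    (heb : e ≠ b)
    (hall : ∀ j : Fin D.rank, j ≠ m → ∀ r : Fin D.nroots,
      D.reflectRoot e.val (D.reflectRoot j.val r.val) = D.reflectRoot j.val (D.reflectRoot e.val r.val))
    (hme : ∃ r : Fin D.nroots,
      D.reflectRoot m.val (D.reflectRoot e.val r.val) ≠ D.reflectRoot e.val (D.reflectRoot m.val r.val))
    (hmb : ∃ r : Fin D.nroots,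
      D.reflectRoot m.val (D.reflectRoot b.val r.val) ≠ D.reflectRoot b.val (D.reflectRoot m.val r.val)) :
    HasBranch p ↥(D.group K) := by
  obtain ⟨⟨co, hF⟩, hC⟩ := CfsgLib.Chev.good_of_mem.{0} hD
  refine ⟨_, _, BNSteinberg.split hF hC (K := K) p, ?_⟩
  have hne : ∀ i j : Fin D.rank, (∃ r : Fin D.nroots, D.reflectRoot i.val (D.reflectRoot j.val r.val) ≠
      D.reflectRoot j.val (D.reflectRoot i.val r.val)) → sP D i * sP D j ≠ sP D j * sP D i := by
    rintro i j ⟨r, hr⟩ h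
    have := congrArg (fun g : Equiv.Perm (Fin D.nroots) => (g r).val) h
    simp only [Equiv.Perm.mul_apply, hF.sP_val] at this
    exact hr this
  refine branch_of_perms _ (fun i : Fin D.rank => BNSteinberg.el (K := K) hF i.val) (sP D) ?_
    (chev_eqv hF hC) (fun i j h => Fin.ext (BNSteinberg.el_injOn hF hC i.isLt j.isLt h)) e m b heb
    (hne m e hme) (hne m b hmb) fun i hi => ?_
  · rw [BNSteinberg.S_eq hF hC]
    ext x
    exact ⟨fun ⟨j, hj, e⟩ => ⟨⟨j, hj⟩, e⟩, fun ⟨j, e⟩ => ⟨j.val, j.isLt, e⟩⟩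
  · refine Equiv.ext fun r => Fin.ext ?_
    simp only [Equiv.Perm.mul_apply, hF.sP_val]
    exact hall i hi r

theorem hasBranch_F4 : HasBranch p ↥(chevF4.group K) :=
  hasBranch_chev_of (by simp) ⟨0, by decide⟩ ⟨1, by decide⟩ ⟨2, by decide⟩ (by decide)
    (by decide +kernel) (by decide +kernel) (by decide +kernel)

theorem hasBranch_E6 : HasBranch p ↥(chevE6.group K) :=
  hasBranch_chev_of (by simp) ⟨0, by decide⟩ ⟨2, by decide⟩ ⟨3, by decide⟩ (by decide)
    (by decide +kernel) (by decide +kernel) (by decide +kernel)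

theorem hasBranch_E7 : HasBranch p ↥(chevE7.group K) :=
  hasBranch_chev_of (by simp) ⟨0, by decide⟩ ⟨2, by decide⟩ ⟨3, by decide⟩ (by decide)
    (by decide +kernel) (by decide +kernel) (by decide +kernel)

theorem hasBranch_E8 : HasBranch p ↥(chevE8.group K) :=
  hasBranch_chev_of (by simp) ⟨0, by decide⟩ ⟨2, by decide⟩ ⟨3, by decide⟩ (by decide)
    (by decide +kernel) (by decide +kernel) (by decide +kernel)

theorem hasBranch_twE6 {q : ℕ} (hq : IsPrimePow q) (hK : Fintype.card K = q ^ 2) :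
    HasBranch p ↥(Cfsg.Lie.twistedE6 K q) := by
  obtain ⟨C⟩ := CfsgLib.Chev.TwE6.nonempty_ctx hq hK
  refine ⟨_, _, C.sys.split p, ?_⟩
  have hF := C.sys.sig.hF
  refine branch_of_perms _ (fun o => (⟨C.sys.nO o, C.sys.nO_mem o⟩ : ↥(twistedE6 K q)))
    (fun o => (TwE6.O o).wO) rfl (fun i j => ?_) (fun i j h => ?_)
    (⟨0, by decide⟩ : Fin TwE6.spec.length) ⟨1, by decide⟩ ⟨2, by decide⟩ (by simp) ?_ ?_
    fun i hi => ?_
  · have hij := hF.permAct_mul (C.sys.nO_perm i) (C.sys.nO_perm j)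
    have hji := hF.permAct_mul (C.sys.nO_perm j) (C.sys.nO_perm i)
    have hm := Subgroup.mul_mem _ (C.sys.nO_monomial i) (C.sys.nO_monomial j)
    have hm' := Subgroup.mul_mem _ (C.sys.nO_monomial j) (C.sys.nO_monomial i)
    have h := hF.permAct_mul (hF.permAct_inv hm hij) hji
    constructor
    · intro he
      exact inv_mul_eq_one.1 (hF.permAct_pos h he.1.1)
    · intro he
      rw [he, inv_mul_cancel] at h
      have hd := hF.mem_diagonal_of_permAct (Subgroup.mul_mem _ (Subgroup.inv_mem _ hm) hm') h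
      have hG := ((⟨C.sys.nO i, C.sys.nO_mem i⟩ * ⟨C.sys.nO j, C.sys.nO_mem j⟩)⁻¹ *
        (⟨C.sys.nO j, C.sys.nO_mem j⟩ * ⟨C.sys.nO i, C.sys.nO_mem i⟩) : ↥(twistedE6 K q)).2
      exact ⟨⟨hF.diagonal_le_borel hd, hG⟩, ⟨hF.diag_le_monomial hd, hG⟩⟩
  · have h2 := C.sys.nO_perm i
    rw [show C.sys.nO i = C.sys.nO j from congrArg Subtype.val h] at h2
    exact C.sys.wO_injective (hF.permAct_unique h2 (C.sys.nO_perm j))
  all_goals try simp only
  · exact ne_comm_of_order C _ _ (by decide +kernel)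
  · exact ne_comm_of_order C _ _ (by decide +kernel)
  · refine comm_of_order C _ _ ?_
    have key : ∀ a : Fin 4, a ≠ 1 → CoxeterMatrix.F₄.M 0 a ∣ 2 := by
      intro a ha
      fin_cases a <;> simp_all [CoxeterMatrix.F₄]
    exact key i hi
where
  /-- two orbit reflections which do not commute -/
  ne_comm_of_order {q : ℕ} (C : TwE6.Ctx K q) (o o' : Fin TwE6.spec.length)
      (h : ¬ CoxeterMatrix.F₄.M o o' ∣ 2) :
      (TwE6.O o).wO * (TwE6.O o').wO ≠ (TwE6.O o').wO * (TwE6.O o).wO := by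
    intro e
    have h2 : ((TwE6.O o).wO * (TwE6.O o').wO) ^ 2 = 1 := by
      rw [sq]
      nth_rewrite 2 [e]
      rw [mul_assoc, ← mul_assoc (TwE6.O o').wO, C.sys.orb.sq o', one_mul, C.sys.orb.sq o]
    have h3 := orderOf_dvd_of_pow_eq_one h2
    rw [C.order_eq] at h3
    exact h h3
  /-- two orbit reflections which commute -/
  comm_of_order {q : ℕ} (C : TwE6.Ctx K q) (o o' : Fin TwE6.spec.length)
      (h : CoxeterMatrix.F₄.M o o' ∣ 2) :
      (TwE6.O o).wO * (TwE6.O o').wO = (TwE6.O o').wO * (TwE6.O o).wO := by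
    have h1 : ((TwE6.O o).wO * (TwE6.O o').wO) ^ 2 = 1 := by
      obtain ⟨c, hc⟩ := h
      rw [hc, pow_mul, ← C.order_eq, pow_orderOf_eq_one, one_pow]
    rw [sq] at h1
    rw [eq_inv_of_mul_eq_one_left h1, mul_inv_rev]
    rw [inv_eq_of_mul_eq_one_right (C.sys.orb.sq o), inv_eq_of_mul_eq_one_right (C.sys.orb.sq o')]

/-- An automorphism fixing `U` cannot interchange the letters of a frame with no such symmetry. -/
theorem rigid_of_frame {G : Type*} [Group G] [Finite G] {P : Cfsg.BNPair G} {U : Subgroup G}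
    {ι : Type*} {n : ι → G} {n0 : G} (hT : TwAut.Frame P U n n0)
    (hperm : ∀ θ : MulAut G, TwAut.Fixes θ U → TwAut.Fixes θ (TwAut.opU U n0) → ∀ o o',
      (P.parabolic {n o}).map θ.toMonoidHom = P.parabolic {n o'} → o = o')
    {o o' : ι} (hne : o ≠ o') {φ : G ≃* G} (hφ : ∀ u ∈ U, φ u ∈ U) :
    ¬ Sends P φ (n o) (n o') := fun hsend => by
  obtain ⟨x, hU, hV⟩ := hT.exists_fix φ
  have hxB : x ∈ P.B := hT.B_of_norm x fun u hu => by
    have hmap := (show TwAut.Fixes φ U from hφ).map_eq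
    rw [← hmap] at hu
    obtain ⟨v, hv, rfl⟩ := hu
    exact hU v hv
  refine hne (hperm _ hU hV o o' ?_)
  rw [show (P.parabolic {n o}).map (MulAut.conj x * φ).toMonoidHom =
    ((P.parabolic {n o}).map φ.toMonoidHom).map (MulAut.conj x).toMonoidHom by
      rw [Subgroup.map_map]; rfl, hsend]
  refine Subgroup.eq_of_le_of_card_ge ?_
    (by rw [Subgroup.card_map_of_injective (MulAut.conj x).injective])
  rintro _ ⟨y, hy, rfl⟩
  exact mul_mem (mul_mem (B_le_parabolic _ hxB) hy) (inv_mem (B_le_parabolic _ hxB))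

theorem two_of_range {G : Type*} [Group G] {P : Cfsg.BNPair G} {n : ℕ} (hn : n = 2) {f : Fin n → G}
    (hS : P.S = Set.range f) (hinj : Function.Injective f) :
    ∃ a b : Fin n, a ≠ b ∧ Two P (f a) (f b) := by
  subst hn
  refine ⟨0, 1, by decide, hS ▸ Set.mem_range_self _, hS ▸ Set.mem_range_self _,
    fun h => absurd (hinj h) (by decide), fun s hs => ?_⟩
  rw [hS] at hs
  obtain ⟨i, rfl⟩ := hs
  fin_cases i
  · exact Or.inl rfl
  · exact Or.inr rfl

theorem hasRigid_twD4 {q : ℕ} (hq : IsPrimePow q) (hK : Fintype.card K = q ^ 3) :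
    HasTwoRigid p ↥(Cfsg.Lie.twistedD4 K q) := by
  obtain ⟨C⟩ := CfsgLib.Chev.TwD4.nonempty_ctx hq hK
  have hT := C.frame p
  obtain ⟨a, b, hab, htwo⟩ := two_of_range (show TwD4.spec.length = 2 by decide) hT.S_eq hT.n_inj
  exact ⟨C.sys.bnPair, C.sys.uSub, _, _, C.sys.split p, htwo,
    fun φ hφ => rigid_of_frame hT (C.hperm p) hab hφ⟩

theorem hasRigid_twF4 {m : ℕ} (hK : Fintype.card K = 2 ^ (2 * m + 1)) :
    HasTwoRigid p ↥(Cfsg.Lie.twistedF4 K (2 ^ m)) := by
  obtain ⟨C⟩ := CfsgLib.Chev.TwF4.nonempty_ctx hK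
  have hT := C.frame p
  obtain ⟨a, b, hab, htwo⟩ := two_of_range (show TwF4.spec.length = 2 by decide) hT.S_eq hT.n_inj
  exact ⟨C.sys.bnPair, C.sys.uSub, _, _, C.sys.split p, htwo,
    fun φ hφ => rigid_of_frame hT (C.hperm p) hab hφ⟩

theorem two_G2 {co : ℕ → ℕ → ℤ} (hF : Facts chevG2 co) (hC : CommF.{0} chevG2) :
    Two (hF.bnPair hC (K := K)) (BNSteinberg.el hF 0) (BNSteinberg.el hF 1) := by
  have hr : chevG2.rank = 2 := by decide +kernel
  rw [Two, BNSteinberg.S_eq hF hC]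
  refine ⟨⟨0, by show 0 < chevG2.rank; omega, rfl⟩, ⟨1, by show 1 < chevG2.rank; omega, rfl⟩,
    fun h => absurd (BNSteinberg.el_injOn hF hC (show 0 < chevG2.rank by omega)
      (show 1 < chevG2.rank by omega) h) (by omega), ?_⟩
  rintro _ ⟨j, hj, rfl⟩
  change j < chevG2.rank at hj
  rcases (by omega : j = 0 ∨ j = 1) with rfl | rfl
  · exact Or.inl rfl
  · exact Or.inr rfl

theorem hasTwo_G2 : HasTwo p ↥(chevG2.group K) := by
  obtain ⟨⟨co, hF⟩, hC⟩ := CfsgLib.Chev.good_of_mem.{0} (D := chevG2) (by simp)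
  exact ⟨_, _, _, _, BNSteinberg.split hF hC (K := K) p, two_G2 hF hC⟩

open AutThm in
theorem hasRigid_G2 (h2 : ringChar K = 2) (hq : 3 ≤ Fintype.card K) :
    HasTwoRigid p ↥(chevG2.group K) := by
  obtain ⟨⟨co, hF⟩, hC⟩ := CfsgLib.Chev.good_of_mem.{0} (D := chevG2) (by simp)
  refine ⟨_, _, _, _, BNSteinberg.split hF hC (K := K) p, two_G2 hF hC, fun φ hφ hsend => ?_⟩
  obtain ⟨x, hx⟩ := piOf_spec hF hC (φ : MulAut ↥(chevG2.group K))
  have hπ : piHom hF hC (φ : MulAut ↥(chevG2.group K)) = 1 := by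
    rcases range_le hF hC (form_G2 (F := K)) ⟨φ, rfl⟩ with h | ⟨-, h⟩
    · exact h
    · rw [h2, Nat.card_eq_fintype_card] at h
      omega
  have hx' : Norm (MulAut.conj x * φ) (1 : Equiv.Perm (Fin chevG2.rank)) := hπ ▸ hx
  obtain ⟨i, hi0⟩ : ∃ i : Fin chevG2.rank, i.val = 0 := ⟨⟨0, hF.rank_pos⟩, rfl⟩
  set ψ := MulAut.conj x * (φ : MulAut ↥(chevG2.group K)) with hψ
  have hψU : ∀ u ∈ (chevG2.posUnipotent K).subgroupOf (chevG2.group K),
      ψ u ∈ (chevG2.posUnipotent K).subgroupOf (chevG2.group K) := fun u hu => by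
    have := ((hx'.fix hF hC).1 u.1 u.2).2 hu
    rwa [app_val] at this
  have hxB : x ∈ (hF.bnPair hC (K := K)).B := by
    refine inv_inv x ▸ inv_mem (mem_B_of_normalizes (BNSteinberg.split hF hC (K := K) p) fun u hu => ?_)
    have hU : ((chevG2.posUnipotent K).subgroupOf (chevG2.group K)).map φ.toMonoidHom =
        (chevG2.posUnipotent K).subgroupOf (chevG2.group K) := Subgroup.eq_of_le_of_card_ge
      (by rintro _ ⟨u, hu, rfl⟩; exact hφ u hu)
      (by rw [Subgroup.card_map_of_injective φ.injective])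
    rw [← hU] at hu
    obtain ⟨v, hv, rfl⟩ := hu
    simpa [hψ, mul_assoc] using hψU v hv
  have hsend' : Sends (hF.bnPair hC (K := K)) ψ (BNSteinberg.el hF 0) (BNSteinberg.el hF 1) := by
    unfold Sends at hsend ⊢
    rw [show ((hF.bnPair hC (K := K)).parabolic {BNSteinberg.el hF 0}).map ψ.toMonoidHom =
      (((hF.bnPair hC (K := K)).parabolic {BNSteinberg.el hF 0}).map φ.toMonoidHom).map
        (MulAut.conj x).toMonoidHom by rw [Subgroup.map_map]; rfl, hsend]
    refine Subgroup.eq_of_le_of_card_ge ?_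
      (by rw [Subgroup.card_map_of_injective (MulAut.conj x).injective])
    rintro _ ⟨y, hy, rfl⟩
    exact mul_mem (mul_mem (B_le_parabolic _ hxB) hy) (inv_mem (B_le_parabolic _ hxB))
  set P := hF.bnPair hC (K := K)
  set g : ↥(chevG2.group K) :=
    ⟨xU chevG2 (chevG2.neg (chevG2.simple i)) 1, mem_x hF (hF.neg_lt (hF.simple_lt' i.isLt)) 1⟩
    with hg
  have hgP : g ∈ P.parabolic {BNSteinberg.el hF 0} := by
    obtain ⟨c, hc0, hc, -⟩ := hF.permAct_nS (F := K) i (hF.simpleFin i)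
    rw [hF.sP_simple] at hc
    have e : g = BNSteinberg.el hF 0 *
        ⟨xU chevG2 (chevG2.simple i) c⁻¹, mem_x hF (hF.simple_lt' i.isLt) _⟩ *
        (BNSteinberg.el hF 0)⁻¹ := by
      refine Subtype.ext ?_
      rw [← hi0]
      simp only [Subgroup.coe_mul, Subgroup.coe_inv, BNSteinberg.el_val hF hC i.isLt]
      have := hc c⁻¹
      rw [mul_inv_cancel₀ hc0] at this
      exact this.symm
    rw [e]
    refine mul_mem (mul_mem (J_subset_parabolic (Set.mem_singleton _)) (B_le_parabolic _ ?_))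
      (inv_mem (J_subset_parabolic (Set.mem_singleton _)))
    show xU chevG2 (chevG2.simple i) c⁻¹ ∈ chevG2.borelSubgroup K
    exact hF.pos_le_borel (xU_mem_rootClosure (hF.simple_lt' i.isLt) (hF.simple_lt i i.isLt).1 _)
  obtain ⟨t, ht⟩ := (hx' i 1).2
  rw [Equiv.Perm.one_apply] at ht
  have ht' : (ψ g : GL chevG2.Idx K) = xU chevG2 (chevG2.neg (chevG2.simple i)) t := by
    rw [← app_val]; exact ht
  have hψgP : ψ g ∈ P.parabolic {BNSteinberg.el hF 0} := by
    by_cases ht0 : t = 0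
    · have e1 : ψ g = 1 := Subtype.ext (by
        rw [ht', ht0, hF.xU_zero (hF.neg_lt (hF.simple_lt' i.isLt))]; rfl)
      rw [e1]; exact one_mem _
    obtain ⟨c, hc0, hc, -⟩ := hF.permAct_nS (F := K) i (hF.simpleFin i)
    rw [hF.sP_simple] at hc
    have e : ψ g = BNSteinberg.el hF 0 *
        ⟨xU chevG2 (chevG2.simple i) (c⁻¹ * t), mem_x hF (hF.simple_lt' i.isLt) _⟩ *
        (BNSteinberg.el hF 0)⁻¹ := by
      refine Subtype.ext ?_
      rw [← hi0, ht']
      simp only [Subgroup.coe_mul, Subgroup.coe_inv, BNSteinberg.el_val hF hC i.isLt]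
      have := hc (c⁻¹ * t)
      rw [mul_inv_cancel_left₀ hc0] at this
      exact this.symm
    rw [e]
    refine mul_mem (mul_mem (J_subset_parabolic (Set.mem_singleton _)) (B_le_parabolic _ ?_))
      (inv_mem (J_subset_parabolic (Set.mem_singleton _)))
    show xU chevG2 (chevG2.simple i) (c⁻¹ * t) ∈ chevG2.borelSubgroup K
    exact hF.pos_le_borel (xU_mem_rootClosure (hF.simple_lt' i.isLt) (hF.simple_lt i i.isLt).1 _)
  have hψgP' : ψ g ∈ P.parabolic {BNSteinberg.el hF 1} := hsend' ▸ ⟨g, hgP, rfl⟩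
  obtain ⟨h0, h1, h01, -⟩ := two_G2 (K := K) hF hC
  by_cases hB : ψ g ∈ P.B
  · have hV : (ψ g : GL chevG2.Idx K) ∈ chevG2.borelSubgroup K ⊓ chevG2.negUnipotent K := by
      refine ⟨hB, ?_⟩
      rw [ht', hF.negUnipotent_eq]
      exact xU_mem_rootClosure (hF.neg_lt (hF.simple_lt' i.isLt))
        ((hF.neg_lt_half (hF.neg_lt (hF.simple_lt' i.isLt))).1
          (by rw [hF.neg_neg (hF.simple_lt' i.isLt)]; exact (hF.simple_lt i i.isLt).1)) t
    rw [hF.borel_inf_neg, Subgroup.mem_bot] at hV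
    have hg1 : g = 1 := ψ.injective ((Subtype.ext hV : ψ g = 1).trans (map_one ψ).symm)
    exact one_ne_zero (hF.xU_eq_one (hF.neg_lt (hF.simple_lt' i.isLt))
      (congrArg Subtype.val hg1))
  · exact h01 (P.inj _ h0 _ h1 (eqv_of_mem_cells (s_mem_N h0) (s_mem_N h1)
      (parabolic_single h0 hψgP hB) (parabolic_single h1 hψgP' hB)).1)

end CfsgLib.SplitBN
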