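import Cfsg.Agent.Lib.SplitBN.Perm
import Cfsg.Prelude.Def_LocalEven
import Mathlib.Order.Atoms

/-!
# `p`-minimal groups with a normal subgroup carrying a split Tits system

A Sylow subgroup of such a group permutes the minimal parabolic subgroups transitively and the
normaliser of the unipotent subgroup is the only maximal subgroup above it.
-/

set_option autoImplicit false
set_option linter.unusedSectionVars false

namespace CfsgLib.SplitBN

open CfsgLib.Chev.BN CfsgLib.BNSteinberg

variable {X : Type*} [Group X] [Finite X] {p : ℕ} {K : Subgroup X} [hKn : K.Normal]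

theorem conjNormal_map_subtype (x : X) (M : Subgroup K) :
    (M.map (MulAut.conjNormal (H := K) x).toMonoidHom).map K.subtype =
      (M.map K.subtype).map (MulAut.conj x).toMonoidHom := by
  rw [Subgroup.map_map, Subgroup.map_map]
  congr 1

theorem mem_normalizer_map {U : Subgroup K} {x : X} :
    x ∈ Subgroup.normalizer ((U.map K.subtype : Subgroup X) : Set X) ↔
      ∀ u ∈ U, MulAut.conjNormal (H := K) x u ∈ U := by
  constructor
  · intro h u hu
    obtain ⟨v, hv, e⟩ := (Subgroup.mem_normalizer_iff.1 h (u : X)).1 ⟨u, hu, rfl⟩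
    have e' : MulAut.conjNormal (H := K) x u = v :=
      Subtype.ext ((MulAut.conjNormal_apply x u).trans e.symm)
    exact e' ▸ hv
  · intro h
    have hmap : U.map (MulAut.conjNormal (H := K) x).toMonoidHom = U :=
      Subgroup.eq_of_le_of_card_ge (by rintro _ ⟨u, hu, rfl⟩; exact h u hu)
        (by rw [Subgroup.card_map_of_injective (f := (MulAut.conjNormal (H := K) x).toMonoidHom)
          (MulAut.conjNormal (H := K) x).injective])
    refine Subgroup.mem_normalizer_iff.2 fun y => ⟨?_, ?_⟩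
    · rintro ⟨u, hu, rfl⟩
      exact ⟨_, h u hu, by simp⟩
    · rintro ⟨v, hv, e⟩
      rw [← hmap] at hv
      obtain ⟨u, hu, rfl⟩ := hv
      refine ⟨u, hu, mul_left_cancel (a := x) (mul_right_cancel (b := x⁻¹) ?_)⟩
      rw [← e]
      simp

variable {P : Cfsg.BNPair ↥K} {U : Subgroup K} [hp : Fact p.Prime]

/-- The Sylow subgroup of `X` and the maximal subgroup above it. -/
theorem pminimal_core (hX : Cfsg.IsPMinimal p X) (hs : BNSteinberg.Split P p U) (hB : P.B ≠ ⊤) :
    IsCoatom (Subgroup.normalizer ((U.map K.subtype : Subgroup X) : Set X)) ∧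
      ∀ a ∈ P.S, ∀ b ∈ P.S, ∃ x ∈ Subgroup.normalizer ((U.map K.subtype : Subgroup X) : Set X),
        (∃ k : ℕ, x ^ p ^ k = 1) ∧ Sends P (MulAut.conjNormal x) a b := by
  classical
  set NK := Subgroup.normalizer ((U.map K.subtype : Subgroup X) : Set X) with hNK
  have hfixB : ∀ x ∈ NK, P.B.map (MulAut.conjNormal (H := K) x).toMonoidHom = P.B :=
    fun x hx => map_B_of_fix hs (mem_normalizer_map.1 hx)
  -- `N_X(U)` is proper
  have hNKne : NK ≠ ⊤ := fun h => hB (top_le_iff.1 fun k _ => mem_B_of_normalizes hs fun u hu => by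
    have h1 := mem_normalizer_map.1 (show ((k : X))⁻¹ ∈ NK from h ▸ Subgroup.mem_top _) u hu
    convert h1
    exact Subtype.ext (by simp [mul_assoc]))
  -- the Sylow subgroup
  obtain ⟨Q, hQ⟩ := hs.exists_sylow
  obtain ⟨S, hS⟩ := ((hs.pgroup.map K.subtype)).exists_le_sylow
  have hSK : ∀ u : K, (u : X) ∈ (S : Subgroup X) → u ∈ U := by
    have hle : (Q : Subgroup K) ≤ (S : Subgroup X).subgroupOf K := fun u hu =>
      Subgroup.mem_subgroupOf.2 (hS ⟨u, by rwa [← hQ], rfl⟩)
    have := Q.is_maximal' (S.2.comap_of_injective K.subtype K.subtype_injective) hle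
    intro u hu
    rw [← hQ, ← this]
    exact hu
  have hSNK : (S : Subgroup X) ≤ NK := fun x hx => mem_normalizer_map.2 fun u hu => hSK _ (by
    rw [MulAut.conjNormal_apply]
    exact mul_mem (mul_mem hx (hS ⟨u, hu, rfl⟩)) (inv_mem hx))
  obtain ⟨-, M, ⟨hM, hSM⟩, huniq⟩ := hX S
  have hinM : ∀ H : Subgroup X, (S : Subgroup X) ≤ H → H ≠ ⊤ → H ≤ M := fun H h1 h2 => by
    obtain h | ⟨H', hH', hle⟩ := eq_top_or_exists_le_coatom H
    · exact absurd h h2
    · exact huniq H' ⟨hH', h1.trans hle⟩ ▸ hle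
  have hNKM : NK ≤ M := hinM NK hSNK hNKne
  -- Frattini argument
  have hfrat : NK ⊔ K = ⊤ := by
    have := Sylow.normalizer_sup_eq_top Q
    rwa [hQ] at this
  have hKM : ¬ K ≤ M := fun h => hM.1 (top_le_iff.1 (hfrat ▸ sup_le hNKM h))
  -- invariant sets of letters give proper subgroups
  have hinv : ∀ T ⊆ P.S, T ≠ P.S →
      (∀ x ∈ (S : Subgroup X), ∀ t ∈ T, ∀ t' ∈ P.S, Sends P (MulAut.conjNormal x) t t' → t' ∈ T) →
      (P.parabolic T).map K.subtype ≤ M := by
    intro T hT hne hcl
    set MT := (P.parabolic T).map K.subtype with hMT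
    have hnorm : (S : Subgroup X) ≤ Subgroup.normalizer (MT : Set X) := fun x hx => by
      refine mem_normalizer_map.2 fun k hk => ?_
      have hle : (P.parabolic T).map (MulAut.conjNormal (H := K) x).toMonoidHom ≤ P.parabolic T := by
        rw [Cfsg.BNPair.parabolic, Subgroup.map_sup, hfixB x (hSNK hx)]
        refine sup_le le_sup_left ?_
        rw [MonoidHom.map_closure, Subgroup.closure_le]
        rintro _ ⟨t, ht, rfl⟩
        obtain ⟨t', ht', hsend⟩ := exists_sends (hfixB x (hSNK hx)) (hT ht)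
        have h1 : (MulAut.conjNormal (H := K) x).toMonoidHom t ∈ P.parabolic {t'} :=
          hsend ▸ ⟨t, J_subset_parabolic (Set.mem_singleton t), rfl⟩
        exact (sup_le_sup le_rfl (Subgroup.closure_mono
          (Set.singleton_subset_iff.2 (hcl x hx t ht t' ht' hsend))) : P.parabolic {t'} ≤ _) h1
      exact hle ⟨k, hk, rfl⟩
    refine le_trans le_sup_left (hinM (MT ⊔ S) le_sup_right fun htop => hne ?_)
    have hall : P.parabolic T = ⊤ := top_le_iff.1 fun k _ => by
      have hk : (k : X) ∈ ((MT ⊔ (S : Subgroup X) : Subgroup X) : Set X) := by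
        rw [htop]; trivial
      rw [Subgroup.coe_mul_of_right_le_normalizer_left MT S hnorm] at hk
      obtain ⟨m, hm, s, hs', e⟩ := Set.mem_mul.1 hk
      obtain ⟨m, hm', rfl⟩ := hm
      have hsK : ((m⁻¹ * k : K) : X) = s := by simp [← e]
      have := mul_mem hm' (B_le_parabolic T (hs.le (hSK (m⁻¹ * k) (hsK ▸ hs'))))
      rwa [mul_inv_cancel_left] at this
    exact Set.Subset.antisymm hT fun t ht =>
      (mem_parabolic_S hT ht).1 (hall ▸ Subgroup.mem_top t)
  have hall : ¬ ∀ t ∈ P.S, (P.parabolic {t}).map K.subtype ≤ M := fun h => hKM fun k hk => by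
    have h1 : P.parabolic P.S ≤ M.comap K.subtype := by
      refine sup_le ?_ ((Subgroup.closure_le _).2 fun t ht =>
        h t ht ⟨t, J_subset_parabolic (Set.mem_singleton t), rfl⟩)
      intro b hb
      refine hNKM (mem_normalizer_map.2 fun u hu => ?_)
      convert hs.normal b hb u hu
      exact Subtype.ext (by simp)
    rw [parabolic_S] at h1
    exact h1 (Subgroup.mem_top (⟨k, hk⟩ : K))
  -- transitivity
  have hmul : ∀ x y : X, ∀ a b c : K, Sends P (MulAut.conjNormal y) a b →
      Sends P (MulAut.conjNormal x) b c → Sends P (MulAut.conjNormal (x * y)) a c :=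
    fun x y a b c h1 h2 => by
      rw [map_mul]
      exact h1.trans h2
  have hsymm : ∀ x : X, ∀ a b : K, Sends P (MulAut.conjNormal x) a b →
      Sends P (MulAut.conjNormal x⁻¹) b a := fun x a b h => by
    rw [map_inv]
    exact h.symm
  let R : K → K → Prop := fun a b => ∃ x ∈ (S : Subgroup X), Sends P (MulAut.conjNormal x) a b
  obtain ⟨a₀, ha₀, hfull⟩ : ∃ a ∈ P.S, ∀ b ∈ P.S, R a b := by
    by_contra hno
    push Not at hno
    refine hall fun a ha => ?_
    obtain ⟨b, hb, hnb⟩ := hno a ha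
    have hself : a ∈ {c | c ∈ P.S ∧ R a c} := by
      refine ⟨ha, 1, one_mem _, ?_⟩
      rw [map_one]
      exact Subgroup.map_id _
    refine le_trans (Subgroup.map_mono (sup_le_sup le_rfl (Subgroup.closure_mono
      (Set.singleton_subset_iff.2 hself)))) (hinv {c | c ∈ P.S ∧ R a c} (fun c hc => hc.1)
      (fun he => hnb ((he.symm.subset hb : b ∈ {c | c ∈ P.S ∧ R a c})).2) ?_)
    rintro x hx t ⟨-, y, hy, hyt⟩ t' ht' hsend
    exact ⟨ht', x * y, mul_mem hx hy, hmul x y a t t' hyt hsend⟩
  have htrans : ∀ a ∈ P.S, ∀ b ∈ P.S, R a b := by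
    intro a ha b hb
    obtain ⟨x, hx, hxa⟩ := hfull a ha
    obtain ⟨y, hy, hyb⟩ := hfull b hb
    exact ⟨y * x⁻¹, mul_mem hy (inv_mem hx), hmul _ _ a a₀ b (hsymm x a₀ a hxa) hyb⟩
  -- the maximal subgroup normalises `U`
  have hMB : M.comap K.subtype = P.B := by
    have hle : P.B ≤ M.comap K.subtype := fun b hb => by
      refine hNKM (mem_normalizer_map.2 fun u hu => ?_)
      convert hs.normal b hb u hu
      exact Subtype.ext (by simp)
    by_contra hne
    obtain ⟨t, ht, htM⟩ := exists_mem_S hle hne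
    refine hall fun b hb => ?_
    obtain ⟨x, hx, hxb⟩ := htrans t ht b hb
    rw [← hxb, conjNormal_map_subtype]
    rintro _ ⟨y, hy, rfl⟩
    exact mul_mem (mul_mem (hSM hx) (Subgroup.map_le_iff_le_comap.2 htM hy)) (inv_mem (hSM hx))
  have hMNK : M ≤ NK := fun x hx => mem_normalizer_map.2 fun u hu => by
    have hB' : MulAut.conjNormal x u ∈ P.B := by
      rw [← hMB, Subgroup.mem_comap]
      show ((MulAut.conjNormal x u : K) : X) ∈ M
      rw [MulAut.conjNormal_apply]
      refine mul_mem (mul_mem hx ?_) (inv_mem hx)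
      have := hs.le hu
      rw [← hMB] at this
      exact this
    obtain ⟨k, hk⟩ := hs.pgroup ⟨u, hu⟩
    exact hs.unip hB' (k := k) (by
      rw [← map_pow, show u ^ p ^ k = 1 from congrArg Subtype.val hk, map_one])
  refine ⟨le_antisymm hNKM hMNK ▸ hM, fun a ha b hb => ?_⟩
  obtain ⟨x, hx, hxb⟩ := htrans a ha b hb
  obtain ⟨k, hk⟩ := S.2 ⟨x, hx⟩
  exact ⟨x, hSNK hx, ⟨k, congrArg Subtype.val hk⟩, hxb⟩

/-- A branched diagram is impossible. -/
theorem not_pminimal_of_branch [IsSimpleGroup K] (hX : Cfsg.IsPMinimal p X) (h : HasBranch p K) :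
    False := by
  obtain ⟨P, U, hs, hbr⟩ := h
  have hU : U ≠ ⊥ := by
    obtain ⟨e, he, -⟩ := hbr
    exact ne_bot_of_mem hs he
  refine hbr.not_transitive fun a ha b hb => ?_
  obtain ⟨x, hx, -, hab⟩ := (pminimal_core hX hs (B_ne_top hs hU)).2 a ha b hb
  exact ⟨_, map_B_of_fix hs (mem_normalizer_map.1 hx), hab⟩

/-- With two letters, `p = 2` and `K` is proper. -/
theorem pminimal_two [IsSimpleGroup K] (hX : Cfsg.IsPMinimal p X) (h : HasTwo p K) :
    p = 2 ∧ K ≠ ⊤ := by
  obtain ⟨P, U, a, b, hs, ha, hb, hab, hcases⟩ := h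
  obtain ⟨x, hx, ⟨k, hk⟩, hsend⟩ :=
    (pminimal_core hX hs (B_ne_top hs (ne_bot_of_mem hs ha))).2 a ha b hb
  have hB := map_B_of_fix hs (mem_normalizer_map.1 hx)
  constructor
  · by_contra hp2
    have hba : Sends P (MulAut.conjNormal x) b a := by
      obtain ⟨c, hc, hbc⟩ := exists_sends hB hb
      rcases hcases c hc with rfl | rfl
      · exact hbc
      · exact absurd (Sends.inj ha hb hsend hbc) hab
    have key : ∀ n : ℕ, (Even n → Sends P (MulAut.conjNormal (x ^ n)) a a) ∧
        (Odd n → Sends P (MulAut.conjNormal (x ^ n)) a b) := by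
      intro n
      induction n with
      | zero =>
        refine ⟨fun _ => ?_, fun h => absurd h (by simp)⟩
        rw [pow_zero, map_one]
        exact Subgroup.map_id _
      | succ n ih =>
        constructor
        · intro hn
          rw [pow_succ', map_mul]
          exact (ih.2 (Nat.not_even_iff_odd.1 (Nat.even_add_one.1 hn))).trans hba
        · intro hn
          rw [pow_succ', map_mul]
          exact (ih.1 (Nat.not_odd_iff_even.1 (Nat.odd_add_one.1 hn))).trans hsend
    have h1 := (key (p ^ k)).2 ((hp.out.odd_of_ne_two hp2).pow)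
    rw [hk, map_one] at h1
    exact hab (parabolic_inj ha hb (Eq.trans (Subgroup.map_id _).symm h1))
  · intro htop
    have hxK : x ∈ K := htop ▸ Subgroup.mem_top x
    have hxB : (⟨x, hxK⟩ : K)⁻¹ ∈ P.B := mem_B_of_normalizes hs fun u hu => by
      have h1 := mem_normalizer_map.1 hx u hu
      convert h1
      exact Subtype.ext (by simp)
    have hxP := inv_mem (B_le_parabolic ({a} : Set K) hxB)
    rw [inv_inv] at hxP
    refine hab (parabolic_inj ha hb (Eq.trans ?_ hsend))
    refine (Subgroup.eq_of_le_of_card_ge ?_ (by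
      rw [Subgroup.card_map_of_injective (f := (MulAut.conjNormal (H := K) x).toMonoidHom)
          (MulAut.conjNormal (H := K) x).injective])).symm
    rintro _ ⟨y, hy, rfl⟩
    convert mul_mem (mul_mem hxP hy) (inv_mem hxP)
    exact Subtype.ext (by simp)

/-- Two letters which cannot be interchanged are impossible. -/
theorem not_pminimal_of_rigid [IsSimpleGroup K] (hX : Cfsg.IsPMinimal p X)
    (h : HasTwoRigid p K) : False := by
  obtain ⟨P, U, a, b, hs, ⟨ha, hb, hab, -⟩, hno⟩ := h
  obtain ⟨x, hx, -, hsend⟩ :=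
    (pminimal_core hX hs (B_ne_top hs (ne_bot_of_mem hs ha))).2 a ha b hb
  exact hno _ (mem_normalizer_map.1 hx) hsend

theorem normalizer_map_equiv {Y : Type*} [Group Y] (e : X ≃* Y) (H : Subgroup X) :
    (Subgroup.normalizer (H : Set X)).map e.toMonoidHom =
      Subgroup.normalizer ((H.map e.toMonoidHom : Subgroup Y) : Set Y) :=
  Subgroup.map_normalizer_eq_of_bijective H e.bijective

/-- The normaliser of a Sylow subgroup of `K` is maximal. -/
theorem pminimal_coatom [IsSimpleGroup K] (hX : Cfsg.IsPMinimal p X) (h : HasSplit p K)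
    (Q : Sylow p K) :
    IsCoatom (Subgroup.normalizer (((Q : Subgroup K).map K.subtype : Subgroup X) : Set X)) := by
  obtain ⟨P, U, hs, hU⟩ := h
  obtain ⟨Q₀, hQ₀⟩ := hs.exists_sylow
  obtain ⟨g, hg⟩ := MulAction.exists_smul_eq K Q₀ Q
  have h0 := (pminimal_core hX hs (B_ne_top hs hU)).1
  have e1 : (Q : Subgroup K).map K.subtype =
      (U.map K.subtype).map (MulAut.conj (g : X)).toMonoidHom := by
    rw [← hg, Sylow.coe_subgroup_smul, hQ₀, Subgroup.map_map]
    show (U.map (MulAut.conj g).toMonoidHom).map K.subtype = _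
    rw [Subgroup.map_map]
    congr 1
  rw [e1, ← normalizer_map_equiv]
  exact (MulEquiv.mapSubgroup (MulAut.conj (g : X))).isCoatom_iff _ |>.2 h0

end CfsgLib.SplitBN
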