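import Cfsg.Agent.Lib.SplitBN.PMinimalGen
import Cfsg.Agent.Lib.SplitBN.Extra
import Cfsg.Agent.Lib.Cores.Basic

/-!
# Overgroups of a Sylow 2-subgroup of `A₆`
-/

set_option autoImplicit false
set_option linter.unusedSectionVars false
set_option maxRecDepth 100000

namespace CfsgLib.SplitBN

/-- An isomorphism can be corrected to carry a given Sylow subgroup to another. -/
theorem exists_equiv_map_sylow {A : Type*} [Group A] [Finite A] {B : Type*} [Group B] [Finite B] {p : ℕ}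
    [Fact p.Prime] (e : A ≃* B) (U : Sylow p A) (T : Sylow p B) :
    ∃ e' : A ≃* B, ∀ a, e' a ∈ (T : Subgroup B) ↔ a ∈ (U : Subgroup A) := by
  obtain ⟨g, hg⟩ := MulAction.exists_smul_eq B (U.mapSurjective (f := e.toMonoidHom) e.surjective) T
  refine ⟨e.trans (MulAut.conj g), fun a => ?_⟩
  rw [← hg, Sylow.coe_subgroup_smul]
  show MulAut.conj g (e a) ∈
    ((U : Subgroup A).map e.toMonoidHom).map (MulAut.conj g).toMonoidHom ↔ _
  rw [Subgroup.map_map]
  refine ⟨?_, fun ha => ⟨a, ha, rfl⟩⟩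
  rintro ⟨b, hb, hab⟩
  rw [← e.injective ((MulAut.conj g).injective hab)]
  exact hb

theorem comap_equiv_ne_top {A B : Type*} [Group A] [Group B] (e : A ≃* B) {H : Subgroup B}
    (h : H ≠ ⊤) : H.comap e.toMonoidHom ≠ ⊤ := fun h' => h (top_le_iff.1 fun b _ => by
  have h2 : e.symm b ∈ H.comap e.toMonoidHom := h' ▸ Subgroup.mem_top _
  simpa using h2)

namespace AltSixOver

open Equiv

/-- Four points cycled, two swapped. -/
def sg : Perm (Fin 6) := swap 0 1 * swap 1 2 * swap 2 3 * swap 4 5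

/-- A reflection. -/
def tu : Perm (Fin 6) := swap 0 2 * swap 4 5

/-- The central involution. -/
def zz : Perm (Fin 6) := sg * sg

/-- A Sylow 2-subgroup. -/
def qList : List (Perm (Fin 6)) :=
  [1, sg, sg * sg, sg * sg * sg, tu, sg * tu, sg * sg * tu, sg * sg * sg * tu]

/-- The first four-group. -/
def v1List : List (Perm (Fin 6)) := [1, sg * sg, sg * tu, sg * sg * sg * tu]

/-- The second four-group. -/
def v2List : List (Perm (Fin 6)) := [1, sg * sg, tu, sg * sg * tu]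

/-- An element of order three normalising the first. -/
def g1 : Perm (Fin 6) := swap 0 1 * swap 1 2

/-- An element of order three normalising the second. -/
def g2 : Perm (Fin 6) := swap 0 1 * swap 1 4 * swap 2 3 * swap 3 5

/-- The normaliser of the first. -/
def n1List : List (Perm (Fin 6)) := qList ++ qList.map (· * g1) ++ qList.map (· * (g1 * g1))

/-- The normaliser of the second. -/
def n2List : List (Perm (Fin 6)) := qList ++ qList.map (· * g2) ++ qList.map (· * (g2 * g2))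

theorem q_props : qList.Nodup ∧ (∀ x ∈ qList, Perm.sign x = 1) ∧ zz ∈ qList ∧ zz ≠ 1 ∧
    zz * zz = 1 ∧ (∀ x ∈ qList, zz * x = x * zz) := by decide +kernel
theorem q_mul : ∀ x ∈ qList, ∀ y ∈ qList, x * y ∈ qList := by decide +kernel
theorem q_cent : ∀ g : Perm (Fin 6), Perm.sign g = 1 → g * zz = zz * g → g ∈ qList := by
  decide +kernel
theorem q_comm : ∀ r ∈ qList, r ≠ 1 → r = zz ∨ ∃ q ∈ qList, r⁻¹ * (q * r * q⁻¹) = zz := by
  decide +kernel
theorem q_invol : ∀ r ∈ qList, r * r = 1 → r ∈ v1List ∨ r ∈ v2List := by decide +kernel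
theorem q_center : ∀ r ∈ qList, (∀ q ∈ qList, r * q = q * r) → r = 1 ∨ r = zz := by decide +kernel
theorem v_coset : ∀ V ∈ [v1List, v2List], ∀ s ∈ qList, s ∉ V → ∀ q ∈ qList,
    q ∈ V ∨ s⁻¹ * q ∈ V := by decide +kernel
theorem v_span : ∀ V ∈ [v1List, v2List], ∀ r ∈ V, r ≠ 1 → r ≠ zz →
    ∀ v ∈ V, v = 1 ∨ v = zz ∨ v = r ∨ v = r * zz := by decide +kernel
theorem n1_mem : ∀ g : Perm (Fin 6), Perm.sign g = 1 → (∀ v ∈ v1List, g * v * g⁻¹ ∈ v1List) →
    g ∈ n1List := by decide +kernel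
theorem n2_mem : ∀ g : Perm (Fin 6), Perm.sign g = 1 → (∀ v ∈ v2List, g * v * g⁻¹ ∈ v2List) →
    g ∈ n2List := by decide +kernel
theorem n_double : ∀ N ∈ [n1List, n2List], ∀ h ∈ N, h ∈ qList ∨ ∀ g ∈ N, g ∈ qList ∨
    ∃ a ∈ qList, ∃ b ∈ qList, g = a * h * b := by decide +kernel
theorem q_norm₁ : ∀ x ∈ qList, ∀ v ∈ v1List, x * v * x⁻¹ ∈ v1List := by decide +kernel
theorem q_norm₂ : ∀ x ∈ qList, ∀ v ∈ v2List, x * v * x⁻¹ ∈ v2List := by decide +kernel
theorem g1_norm : ∀ v ∈ v1List, g1 * v * g1⁻¹ ∈ v1List := by decide +kernel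
theorem g2_norm : ∀ v ∈ v2List, g2 * v * g2⁻¹ ∈ v2List := by decide +kernel
theorem g1_move : ¬ ∀ v ∈ v2List, g1 * v * g1⁻¹ ∈ v2List := by decide +kernel
theorem g2_move : ¬ ∀ v ∈ v1List, g2 * v * g2⁻¹ ∈ v1List := by decide +kernel
theorem g_sign : Perm.sign g1 = 1 ∧ Perm.sign g2 = 1 := by decide +kernel

/-- The subgroup of a list of permutations. -/
def ofList (L : List (Perm (Fin 6))) (h1 : (1 : Perm (Fin 6)) ∈ L)
    (hm : ∀ x ∈ L, ∀ y ∈ L, x * y ∈ L) : Subgroup (alternatingGroup (Fin 6)) :=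
  let M : Submonoid (alternatingGroup (Fin 6)) :=
    { carrier := {g | (g : Perm (Fin 6)) ∈ L}
      one_mem' := h1
      mul_mem' := fun {a b} ha hb => hm _ ha _ hb }
  { M with
    inv_mem' := fun {g} hg => by
      show g⁻¹ ∈ M
      have h : g⁻¹ = g ^ (orderOf g - 1) := inv_eq_of_mul_eq_one_left (by
        rw [← pow_succ, Nat.sub_add_cancel (orderOf_pos g), pow_orderOf_eq_one])
      rw [h]
      exact pow_mem hg _ }

/-- The Sylow 2-subgroup. -/
def Q₀ : Subgroup (alternatingGroup (Fin 6)) := ofList qList (by decide) q_mul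

/-- The first overgroup. -/
def N₁ : Subgroup (alternatingGroup (Fin 6)) :=
  Subgroup.normalizer ((ofList v1List (by decide) (by decide +kernel) :
    Subgroup (alternatingGroup (Fin 6))) : Set (alternatingGroup (Fin 6)))

/-- The second overgroup. -/
def N₂ : Subgroup (alternatingGroup (Fin 6)) :=
  Subgroup.normalizer ((ofList v2List (by decide) (by decide +kernel) :
    Subgroup (alternatingGroup (Fin 6))) : Set (alternatingGroup (Fin 6)))

theorem mem_normalizer_ofList {L : List (Perm (Fin 6))} {h1 : (1 : Perm (Fin 6)) ∈ L}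
    {hm : ∀ x ∈ L, ∀ y ∈ L, x * y ∈ L} (hs : ∀ x ∈ L, Perm.sign x = 1)
    {g : alternatingGroup (Fin 6)} :
    g ∈ Subgroup.normalizer ((ofList L h1 hm : Subgroup _) : Set (alternatingGroup (Fin 6))) ↔
      ∀ v ∈ L, (g : Perm (Fin 6)) * v * (g : Perm (Fin 6))⁻¹ ∈ L := by
  constructor
  · intro hg v hv
    exact (Subgroup.mem_normalizer_iff.1 hg ⟨v, Equiv.Perm.mem_alternatingGroup.2 (hs v hv)⟩).1 hv
  · intro h
    set V := ofList L h1 hm
    have he : V.map (MulAut.conj g).toMonoidHom = V := Subgroup.eq_of_le_of_card_ge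
      (by rintro _ ⟨v, hv, rfl⟩; exact h _ hv)
      (by rw [Subgroup.card_map_of_injective (f := (MulAut.conj g).toMonoidHom)
        (MulAut.conj g).injective])
    refine Subgroup.mem_normalizer_iff.2 fun n => ⟨fun hn => h _ hn, fun hn => ?_⟩
    rw [← he] at hn
    obtain ⟨v, hv, e⟩ := hn
    exact (MulAut.conj g).injective e ▸ hv

theorem v_sign : (∀ x ∈ v1List, Perm.sign x = 1) ∧ (∀ x ∈ v2List, Perm.sign x = 1) := by
  decide +kernel

theorem mem_N₁ {g : alternatingGroup (Fin 6)} :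
    g ∈ N₁ ↔ ∀ v ∈ v1List, (g : Perm (Fin 6)) * v * (g : Perm (Fin 6))⁻¹ ∈ v1List :=
  mem_normalizer_ofList v_sign.1

theorem mem_N₂ {g : alternatingGroup (Fin 6)} :
    g ∈ N₂ ↔ ∀ v ∈ v2List, (g : Perm (Fin 6)) * v * (g : Perm (Fin 6))⁻¹ ∈ v2List :=
  mem_normalizer_ofList v_sign.2

theorem le_N : Q₀ ≤ N₁ ∧ Q₀ ≤ N₂ ∧ ¬ N₁ ≤ N₂ ∧ ¬ N₂ ≤ N₁ ∧ N₁ ≠ ⊤ ∧ N₂ ≠ ⊤ := by
  obtain ⟨a1, a2, b1, b2, c1, c2⟩ :=
    And.intro q_norm₁ (And.intro q_norm₂ (And.intro g1_norm (And.intro g2_norm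
      (And.intro g1_move g2_move))))
  obtain ⟨s1, s2⟩ := g_sign
  have h12 : ¬ N₁ ≤ N₂ := fun h => c1 (mem_N₂.1
    (h (mem_N₁.2 b1 : (⟨g1, Equiv.Perm.mem_alternatingGroup.2 s1⟩ : alternatingGroup (Fin 6)) ∈ N₁)))
  have h21 : ¬ N₂ ≤ N₁ := fun h => c2 (mem_N₁.1
    (h (mem_N₂.2 b2 : (⟨g2, Equiv.Perm.mem_alternatingGroup.2 s2⟩ : alternatingGroup (Fin 6)) ∈ N₂)))
  exact ⟨fun g hg => mem_N₁.2 (a1 _ hg), fun g hg => mem_N₂.2 (a2 _ hg), h12, h21,
    fun h => h21 (h ▸ le_top), fun h => h12 (h ▸ le_top)⟩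

theorem card_Q₀ : Nat.card Q₀ = 8 := by
  rw [show (8 : ℕ) = qList.toFinset.card by decide +kernel, ← Fintype.card_coe,
    ← Nat.card_eq_fintype_card]
  refine Nat.card_eq_of_bijective (fun g : Q₀ =>
      (⟨((g : alternatingGroup (Fin 6)) : Perm (Fin 6)), List.mem_toFinset.2 g.2⟩ :
        {x // x ∈ qList.toFinset})) ⟨fun a b e => ?_, fun x => ?_⟩
  · have h := congrArg Subtype.val e
    exact Subtype.ext (Subtype.ext h)
  · exact ⟨⟨⟨x.1, Equiv.Perm.mem_alternatingGroup.2 (q_props.2.1 _ (List.mem_toFinset.1 x.2))⟩,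
      List.mem_toFinset.1 x.2⟩, rfl⟩

theorem index_Q₀ : ¬ 2 ∣ Q₀.index := by
  have h := Q₀.card_mul_index
  rw [card_Q₀, CfsgLib.Schur.Tails.Alt.card6] at h
  omega

theorem not_normal_Q₀ : ¬ Q₀.Normal := by
  haveI : IsSimpleGroup (alternatingGroup (Fin 6)) := alternatingGroup.isSimpleGroup (by simp)
  intro h
  rcases h.eq_bot_or_eq_top with e | e
  · have := card_Q₀
    rw [e] at this
    simp at this
  · have := card_Q₀
    rw [e, Subgroup.card_top, CfsgLib.Schur.Tails.Alt.card6] at this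
    omega

theorem overgroups (H : Subgroup (alternatingGroup (Fin 6))) (hQ : Q₀ ≤ H) (hH : H ≠ ⊤) :
    H ≤ Q₀ ∨ H = N₁ ∨ H = N₂ := by
  haveI : Fact (Nat.Prime 2) := ⟨Nat.prime_two⟩
  set R := Cfsg.pCore 2 ↥H with hR
  have hR0 : R ≠ ⊥ := fun h => hH (eq_top_altSix (MulEquiv.refl _) H h fun h2 =>
    index_Q₀ (h2.trans (Subgroup.index_dvd_of_le hQ)))
  haveI hRn : R.Normal :=
    haveI := CfsgLib.Cores.pCore_characteristic (G := ↥H) 2; inferInstance
  -- the core lies in the Sylow subgroup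
  let QH : Sylow 2 ↥H := (((IsPGroup.of_card (p := 2) (n := 3) (by rw [card_Q₀]; norm_num) :
    IsPGroup 2 Q₀)).comap_of_injective H.subtype H.subtype_injective : IsPGroup 2 ↥(Q₀.comap H.subtype)).toSylow
      (fun h2 => index_Q₀ (h2.trans (by
        show (Q₀.subgroupOf H).index ∣ _
        exact ⟨H.index, (Subgroup.relIndex_mul_index hQ).symm⟩)))
  have hRQ : ∀ r ∈ R, ((r : alternatingGroup (Fin 6)) : Perm (Fin 6)) ∈ qList := fun r hr =>
    CfsgLib.Cores.pCore_le_sylow QH hr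
  let c : ↥H → Perm (Fin 6) := fun r => ((r : alternatingGroup (Fin 6)) : Perm (Fin 6))
  let InR : Perm (Fin 6) → Prop := fun x => ∃ r ∈ R, c r = x
  have hmul : ∀ x y, InR x → InR y → InR (x * y) := by
    rintro _ _ ⟨a, ha, rfl⟩ ⟨b, hb, rfl⟩
    exact ⟨a * b, mul_mem ha hb, rfl⟩
  have hinv : ∀ x, InR x → InR x⁻¹ := by
    rintro _ ⟨a, ha, rfl⟩
    exact ⟨a⁻¹, inv_mem ha, rfl⟩
  have hconj : ∀ (h : ↥H) x, InR x → InR (c h * x * (c h)⁻¹) := by
    rintro h _ ⟨a, ha, rfl⟩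
    exact ⟨h * a * h⁻¹, hRn.conj_mem a ha h, rfl⟩
  have hq : ∀ q ∈ qList, ∃ h : ↥H, c h = q := fun q hq' =>
    ⟨⟨⟨q, Equiv.Perm.mem_alternatingGroup.2 (q_props.2.1 q hq')⟩, hQ hq'⟩, rfl⟩
  have hz : InR zz := by
    obtain ⟨a, ha, ha1⟩ := (Subgroup.ne_bot_iff_exists_ne_one.1 hR0 : ∃ a : R, a ≠ 1) |> fun ⟨a, h⟩ =>
      (⟨a.1, a.2, fun e => h (Subtype.ext e)⟩ : ∃ a, a ∈ R ∧ a ≠ 1)
    rcases q_comm (c a) (hRQ a ha) (fun e => ha1 (Subtype.ext (Subtype.ext e))) with e | ⟨q, hq', e⟩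
    · exact ⟨a, ha, e⟩
    · obtain ⟨h, rfl⟩ := hq q hq'
      exact e ▸ hmul _ _ (hinv _ ⟨a, ha, rfl⟩) (hconj h _ ⟨a, ha, rfl⟩)
  by_cases hfix : ∀ h : ↥H, c h * zz * (c h)⁻¹ = zz
  · exact Or.inl fun g hg => q_cent _ (Equiv.Perm.mem_alternatingGroup.1 g.2)
      (mul_inv_eq_iff_eq_mul.1 (hfix ⟨g, hg⟩))
  refine Or.inr ?_
  push Not at hfix
  obtain ⟨h₀, hne⟩ := hfix
  set r := c h₀ * zz * (c h₀)⁻¹ with hr
  have hrR : InR r := hconj h₀ _ hz
  have hrq : r ∈ qList := by obtain ⟨a, ha, e⟩ := hrR; exact e ▸ hRQ a ha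
  have hr1 : r ≠ 1 := fun e => q_props.2.2.2.1 (by
    rw [show zz = (c h₀)⁻¹ * r * c h₀ by rw [hr]; group, e]; group)
  have hr2 : r * r = 1 := by
    rw [show r * r = c h₀ * (zz * zz) * (c h₀)⁻¹ by rw [hr]; group, q_props.2.2.2.2.1]; group
  have main : ∀ V ∈ [v1List, v2List], r ∈ V →
      ∀ h : ↥H, ∀ v ∈ V, c h * v * (c h)⁻¹ ∈ V := by
    intro V hV hrV
    have hVR : ∀ v ∈ V, InR v := fun v hv => by
      rcases v_span V hV r hrV hr1 hne v hv with e | e | e | e <;> rw [e]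
      · exact ⟨1, one_mem _, rfl⟩
      · exact hz
      · exact hrR
      · exact hmul _ _ hrR hz
    have hRV : ∀ x, InR x → x ∈ V := by
      intro s hs
      by_contra hsV
      have hsq : s ∈ qList := by obtain ⟨a, ha, e⟩ := hs; exact e ▸ hRQ a ha
      have hall : ∀ q ∈ qList, InR q := fun q hq' => by
        rcases v_coset V hV s hsq hsV q hq' with e | e
        · exact hVR q e
        · simpa using hmul _ _ hs (hVR _ e)
      refine (q_center r hrq fun q hq' => ?_).elim hr1 hne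
      obtain ⟨a, ha, e⟩ := hconj h₀⁻¹ q (hall q hq')
      have h1 : c a ∈ qList := hRQ a ha
      rw [e] at h1
      replace h1 := q_props.2.2.2.2.2 _ h1
      have h2 : c h₀⁻¹ = (c h₀)⁻¹ := rfl
      rw [h2, inv_inv] at h1
      calc r * q = c h₀ * (zz * ((c h₀)⁻¹ * q * c h₀)) * (c h₀)⁻¹ := by rw [hr]; group
        _ = c h₀ * (((c h₀)⁻¹ * q * c h₀) * zz) * (c h₀)⁻¹ := by rw [h1]
        _ = q * r := by rw [hr]; group
    exact fun h v hv => hRV _ (hconj h v (hVR v hv))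
  have hmem : ∀ g ∈ H, g ∉ Q₀ → ∀ N ∈ [n1List, n2List], (g : Perm (Fin 6)) ∈ N →
      ∀ y : alternatingGroup (Fin 6), (y : Perm (Fin 6)) ∈ N → y ∈ H := by
    intro g hg hgQ N hN hgN y hy
    rcases n_double N hN _ hgN with e | e
    · exact absurd e hgQ
    rcases e _ hy with e' | ⟨a, ha, b, hb, e'⟩
    · exact hQ e'
    · obtain ⟨a', ha'⟩ := hq a ha
      obtain ⟨b', hb'⟩ := hq b hb
      have : y = (a' : alternatingGroup (Fin 6)) * g * b' := Subtype.ext (by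
        rw [e', ← ha', ← hb']; rfl)
      rw [this]
      exact mul_mem (mul_mem a'.2 hg) b'.2
  have hg0 : (h₀ : alternatingGroup (Fin 6)) ∉ Q₀ := fun hh =>
    hne (by
      show c h₀ * zz * (c h₀)⁻¹ = zz
      rw [← show zz * c h₀ = c h₀ * zz from q_props.2.2.2.2.2 _ hh]; group)
  rcases q_invol r hrq hr2 with hV | hV
  · refine Or.inl (le_antisymm (fun g hg => mem_N₁.2 (main _ (by simp) hV ⟨g, hg⟩)) fun y hy => ?_)
    exact hmem _ h₀.2 hg0 n1List (by simp)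
      (n1_mem _ (Equiv.Perm.mem_alternatingGroup.1 (h₀ : alternatingGroup (Fin 6)).2)
        (main _ (by simp) hV h₀)) y
      (n1_mem _ (Equiv.Perm.mem_alternatingGroup.1 y.2) (mem_N₁.1 hy))
  · refine Or.inr (le_antisymm (fun g hg => mem_N₂.2 (main _ (by simp) hV ⟨g, hg⟩)) fun y hy => ?_)
    exact hmem _ h₀.2 hg0 n2List (by simp)
      (n2_mem _ (Equiv.Perm.mem_alternatingGroup.1 (h₀ : alternatingGroup (Fin 6)).2)
        (main _ (by simp) hV h₀)) y
      (n2_mem _ (Equiv.Perm.mem_alternatingGroup.1 y.2) (mem_N₂.1 hy))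

end AltSixOver

open AltSixOver in
/-- A socle `A₆` in characteristic 2. -/
theorem pminimal_altSix {X : Type*} [Group X] [Finite X] {K : Subgroup X} [K.Normal]
    [Fact (Nat.Prime 2)] (hX : Cfsg.IsPMinimal 2 X) (e : ↥K ≃* ↥(alternatingGroup (Fin 6)))
    (U : Sylow 2 ↥K) :
    IsCoatom (Subgroup.normalizer (((U : Subgroup K).map K.subtype : Subgroup X) : Set X)) ∧
      K ≠ ⊤ := by
  haveI : IsSimpleGroup (alternatingGroup (Fin 6)) := alternatingGroup.isSimpleGroup (by simp)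
  haveI : Nontrivial ↥K := e.toEquiv.nontrivial
  haveI : IsSimpleGroup ↥K :=
    IsSimpleGroup.isSimpleGroup_of_surjective e.symm.toMonoidHom e.symm.surjective
  let T := (IsPGroup.of_card (p := 2) (n := 3) (by rw [card_Q₀]; norm_num) :
    IsPGroup 2 Q₀).toSylow index_Q₀
  obtain ⟨f, hf⟩ := exists_equiv_map_sylow e U T
  have hU : ¬ (U : Subgroup K).Normal := fun h => not_normal_Q₀ ⟨fun x hx g => by
    have h1 := h.conj_mem (f.symm x) ((hf _).1 (by rw [f.apply_symm_apply]; exact hx)) (f.symm g)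
    have h2 := (hf _).2 h1
    rw [map_mul, map_mul, map_inv, f.apply_symm_apply, f.apply_symm_apply] at h2
    exact h2⟩
  obtain ⟨l1, l2, l12, l21, t1, t2⟩ := le_N
  have hle : ∀ A : Subgroup (alternatingGroup (Fin 6)), Q₀ ≤ A →
      (U : Subgroup K) ≤ A.comap f.toMonoidHom := fun A hA u hu => hA ((hf u).2 hu)
  refine coatom_of_two hX U hU (N₁.comap f.toMonoidHom) (N₂.comap f.toMonoidHom) (hle _ l1) (hle _ l2)
    (comap_equiv_ne_top f t1) (comap_equiv_ne_top f t2)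
    (fun h => l12 ((Subgroup.comap_le_comap_of_surjective f.surjective).1 h))
    (fun h => l21 ((Subgroup.comap_le_comap_of_surjective f.surjective).1 h)) fun H hQH hH => ?_
  have hback : (H.map f.toMonoidHom).comap f.toMonoidHom = H :=
    Subgroup.comap_map_eq_self_of_injective f.injective H
  rcases overgroups (H.map f.toMonoidHom)
    (fun x hx => ⟨f.symm x, hQH ((hf _).1 (by rw [f.apply_symm_apply]; exact hx)), by simp⟩)
    (fun h => hH (by rw [← hback, h, Subgroup.comap_top])) with h | h | h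
  · exact Or.inl fun u hu => (hf u).1 (h ⟨u, hu, rfl⟩)
  · exact Or.inr (Or.inl (by rw [← hback, h]))
  · exact Or.inr (Or.inr (by rw [← hback, h]))

end CfsgLib.SplitBN
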