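import Cfsg.Agent.Lib.SplitBN.PMinimal

/-!
# `p`-minimal groups and the overgroups of a Sylow subgroup of a simple normal subgroup
-/

set_option autoImplicit false
set_option linter.unusedSectionVars false

namespace CfsgLib.SplitBN

universe u

variable {X : Type u} [Group X] [Finite X] {p : ℕ} [hp : Fact p.Prime] {K : Subgroup X}
  [hKn : K.Normal] [IsSimpleGroup K]

/-- A Sylow subgroup of `X` above a given one of `K`, the maximal subgroup above it. -/
theorem pminimal_setup (hX : Cfsg.IsPMinimal p X) (Q : Sylow p K) (hQ : ¬ (Q : Subgroup K).Normal) :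
    ∃ (S : Sylow p X) (M : Subgroup X), IsCoatom M ∧ (S : Subgroup X) ≤ M ∧
      (∀ k : K, (k : X) ∈ (S : Subgroup X) ↔ k ∈ (Q : Subgroup K)) ∧
      (∀ x ∈ (S : Subgroup X), ∀ u ∈ (Q : Subgroup K),
        MulAut.conjNormal (H := K) x u ∈ (Q : Subgroup K)) ∧
      Subgroup.normalizer (((Q : Subgroup K).map K.subtype : Subgroup X) : Set X) ≤ M ∧
      ¬ K ≤ M ∧
      (∀ H : Subgroup K, (Q : Subgroup K) ≤ H → H ≠ ⊤ →
        (∀ x ∈ (S : Subgroup X), ∀ h ∈ H, MulAut.conjNormal (H := K) x h ∈ H) →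
        H ≤ M.comap K.subtype) := by
  obtain ⟨S, hS⟩ := (Q.2.map K.subtype).exists_le_sylow
  have hSK : ∀ k : K, (k : X) ∈ (S : Subgroup X) ↔ k ∈ (Q : Subgroup K) := fun k => by
    refine ⟨fun hk => ?_, fun hk => hS ⟨k, hk, rfl⟩⟩
    rw [← Q.is_maximal' (S.2.comap_of_injective K.subtype K.subtype_injective)
      (fun u hu => Subgroup.mem_comap.2 (hS ⟨u, hu, rfl⟩))]
    exact hk
  have hconj : ∀ x ∈ (S : Subgroup X), ∀ u ∈ (Q : Subgroup K),
      MulAut.conjNormal (H := K) x u ∈ (Q : Subgroup K) := fun x hx u hu => (hSK _).1 (by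
    rw [MulAut.conjNormal_apply]
    exact mul_mem (mul_mem hx ((hSK u).2 hu)) (inv_mem hx))
  set NK := Subgroup.normalizer (((Q : Subgroup K).map K.subtype : Subgroup X) : Set X) with hNK
  have hNKne : NK ≠ ⊤ := fun h => hQ ⟨fun u hu g => by
    have h1 := mem_normalizer_map.1 (show (g : X) ∈ NK from h ▸ Subgroup.mem_top _) u hu
    convert h1
    exact Subtype.ext (by simp)⟩
  have hSNK : (S : Subgroup X) ≤ NK := fun x hx => mem_normalizer_map.2 (hconj x hx)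
  obtain ⟨-, M, ⟨hM, hSM⟩, huniq⟩ := hX S
  have hinM : ∀ H : Subgroup X, (S : Subgroup X) ≤ H → H ≠ ⊤ → H ≤ M := fun H h1 h2 => by
    obtain h | ⟨H', hH', hle⟩ := eq_top_or_exists_le_coatom H
    · exact absurd h h2
    · exact huniq H' ⟨hH', h1.trans hle⟩ ▸ hle
  have hNKM : NK ≤ M := hinM NK hSNK hNKne
  have hKM : ¬ K ≤ M := fun h =>
    hM.1 (top_le_iff.1 (Sylow.normalizer_sup_eq_top Q ▸ sup_le hNKM h))
  refine ⟨S, M, hM, hSM, hSK, hconj, hNKM, hKM, fun H hQH hH hinv => ?_⟩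
  set MT := H.map K.subtype with hMT
  have hnorm : (S : Subgroup X) ≤ Subgroup.normalizer (MT : Set X) := fun x hx =>
    mem_normalizer_map.2 (hinv x hx)
  refine Subgroup.map_le_iff_le_comap.1 (le_trans le_sup_left
    (hinM (MT ⊔ S) le_sup_right fun htop => hH (top_le_iff.1 fun k _ => ?_)))
  have hk : (k : X) ∈ ((MT ⊔ (S : Subgroup X) : Subgroup X) : Set X) := by rw [htop]; trivial
  rw [Subgroup.coe_mul_of_right_le_normalizer_left MT S hnorm] at hk
  obtain ⟨m, ⟨m', hm', rfl⟩, s, hs, e⟩ := Set.mem_mul.1 hk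
  have hsK : ((m'⁻¹ * k : K) : X) = s := by simp [← e]
  have h1 := mul_mem hm' (hQH ((hSK _).1 (hsK ▸ hs)))
  rwa [mul_inv_cancel_left] at h1

theorem not_normal_sylow (Q : Sylow p K) (h0 : (Q : Subgroup K) ≠ ⊥) (h1 : (Q : Subgroup K) ≠ ⊤) :
    ¬ (Q : Subgroup K).Normal := fun h => h.eq_bot_or_eq_top.elim h0 h1

/-- Two proper invariant overgroups which generate are impossible. -/
theorem not_pminimal_of_invariant (hX : Cfsg.IsPMinimal p X) (Q : Sylow p K)
    (hQ : ¬ (Q : Subgroup K).Normal) (H₁ H₂ : Subgroup K) (h₁ : (Q : Subgroup K) ≤ H₁)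
    (h₁' : H₁ ≠ ⊤) (h₂ : (Q : Subgroup K) ≤ H₂) (h₂' : H₂ ≠ ⊤)
    (hinv : ∀ φ : K ≃* K, (∀ u ∈ (Q : Subgroup K), φ u ∈ (Q : Subgroup K)) →
      (∀ h ∈ H₁, φ h ∈ H₁) ∧ (∀ h ∈ H₂, φ h ∈ H₂))
    (hgen : H₁ ⊔ H₂ = ⊤) : False := by
  obtain ⟨S, M, -, -, -, hconj, -, hKM, hle⟩ := pminimal_setup hX Q hQ
  refine hKM fun k hk => ?_
  have h := sup_le (hle H₁ h₁ h₁' fun x hx => (hinv _ (hconj x hx)).1)
    (hle H₂ h₂ h₂' fun x hx => (hinv _ (hconj x hx)).2)
  rw [hgen] at h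
  exact h (Subgroup.mem_top (⟨k, hk⟩ : K))

/-- If the maximal subgroup meets `K` in a group normalising `Q` then `N_X(Q)` is maximal. -/
theorem coatom_of_inter {M : Subgroup X} (hM : IsCoatom M) (Q : Sylow p K)
    (hNM : Subgroup.normalizer (((Q : Subgroup K).map K.subtype : Subgroup X) : Set X) ≤ M)
    (hle : M.comap K.subtype ≤ Subgroup.normalizer ((Q : Subgroup K) : Set K)) :
    IsCoatom (Subgroup.normalizer (((Q : Subgroup K).map K.subtype : Subgroup X) : Set X)) := by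
  suffices h : M ≤ Subgroup.normalizer (((Q : Subgroup K).map K.subtype : Subgroup X) : Set X) by
    rwa [le_antisymm hNM h]
  intro x hx
  refine mem_normalizer_map.2 fun u hu => ?_
  set Q' := (Q : Subgroup K).map (MulAut.conjNormal (H := K) x).toMonoidHom with hQ'
  have hQN : Q' ≤ Subgroup.normalizer ((Q : Subgroup K) : Set K) := by
    rintro _ ⟨v, hv, rfl⟩
    refine hle ?_
    show ((MulAut.conjNormal (H := K) x v : K) : X) ∈ M
    rw [MulAut.conjNormal_apply]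
    refine mul_mem (mul_mem hx (hNM ?_)) (inv_mem hx)
    exact Subgroup.le_normalizer ⟨v, hv, rfl⟩
  have h2 : IsPGroup p ↥((Q : Subgroup K) ⊔ Q') :=
    IsPGroup.to_sup_of_normal_left' Q.2 (Q.2.map _) hQN
  rw [← Q.is_maximal' h2 le_sup_left]
  exact Subgroup.mem_sup_right ⟨u, hu, rfl⟩

/-- Only overgroups normalising `Q`. -/
theorem coatom_of_overgroups (hX : Cfsg.IsPMinimal p X) (Q : Sylow p K)
    (hQ : ¬ (Q : Subgroup K).Normal)
    (hov : ∀ H : Subgroup K, (Q : Subgroup K) ≤ H → H ≠ ⊤ →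
      H ≤ Subgroup.normalizer ((Q : Subgroup K) : Set K)) :
    IsCoatom (Subgroup.normalizer (((Q : Subgroup K).map K.subtype : Subgroup X) : Set X)) := by
  obtain ⟨S, M, hM, hSM, hSK, -, hNM, hKM, -⟩ := pminimal_setup hX Q hQ
  refine coatom_of_inter hM Q hNM (hov _ (fun u hu => hSM ((hSK u).2 hu)) fun h => hKM ?_)
  exact fun k hk => Subgroup.mem_comap.1
    (h ▸ Subgroup.mem_top (⟨k, hk⟩ : K) : (⟨k, hk⟩ : K) ∈ M.comap K.subtype)

/-- Exactly two intermediate overgroups. -/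
theorem coatom_of_two (hX : Cfsg.IsPMinimal p X) (Q : Sylow p K)
    (hQ : ¬ (Q : Subgroup K).Normal) (H₁ H₂ : Subgroup K)
    (h₁ : (Q : Subgroup K) ≤ H₁) (h₂ : (Q : Subgroup K) ≤ H₂) (h₁' : H₁ ≠ ⊤) (h₂' : H₂ ≠ ⊤)
    (h12 : ¬ H₁ ≤ H₂) (h21 : ¬ H₂ ≤ H₁)
    (hov : ∀ H : Subgroup K, (Q : Subgroup K) ≤ H → H ≠ ⊤ →
      H ≤ (Q : Subgroup K) ∨ H = H₁ ∨ H = H₂) :
    IsCoatom (Subgroup.normalizer (((Q : Subgroup K).map K.subtype : Subgroup X) : Set X)) ∧
      K ≠ ⊤ := by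
  obtain ⟨S, M, hM, hSM, hSK, hconj, hNM, hKM, hle⟩ := pminimal_setup hX Q hQ
  set D := M.comap K.subtype with hD
  have hQD : (Q : Subgroup K) ≤ D := fun u hu => hSM ((hSK u).2 hu)
  have hDtop : D ≠ ⊤ := fun h => hKM fun k hk => Subgroup.mem_comap.1
    (show (⟨k, hk⟩ : K) ∈ D by rw [h]; exact Subgroup.mem_top _)
  have hDinv : ∀ x ∈ (S : Subgroup X), ∀ h ∈ D, MulAut.conjNormal (H := K) x h ∈ D :=
    fun x hx h hh => by
      show ((MulAut.conjNormal (H := K) x h : K) : X) ∈ M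
      rw [MulAut.conjNormal_apply]
      exact mul_mem (mul_mem (hSM hx) hh) (inv_mem (hSM hx))
  -- if one of the two is invariant, so is the other
  have other : ∀ A B : Subgroup K, (Q : Subgroup K) ≤ A → (Q : Subgroup K) ≤ B → B ≠ ⊤ →
      ¬ B ≤ A → (∀ H : Subgroup K, (Q : Subgroup K) ≤ H → H ≠ ⊤ →
        H ≤ (Q : Subgroup K) ∨ H = A ∨ H = B) →
      (∀ x ∈ (S : Subgroup X), ∀ h ∈ A, MulAut.conjNormal (H := K) x h ∈ A) →
      ∀ x ∈ (S : Subgroup X), ∀ h ∈ B, MulAut.conjNormal (H := K) x h ∈ B := by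
    intro A B hA hB hBtop hBA hAB hAinv x hx h hh
    set φ := MulAut.conjNormal (H := K) x with hφ
    have hQmap : (Q : Subgroup K).map φ.toMonoidHom = Q := Subgroup.eq_of_le_of_card_ge
      (by rintro _ ⟨u, hu, rfl⟩; exact hconj x hx u hu)
      (by rw [Subgroup.card_map_of_injective (f := φ.toMonoidHom) φ.injective])
    have hQB : (Q : Subgroup K) ≤ B.map φ.toMonoidHom := hQmap ▸ Subgroup.map_mono hB
    have hne : B.map φ.toMonoidHom ≠ ⊤ := fun e => hBtop (Subgroup.map_injective (f := φ.toMonoidHom)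
      φ.injective (e.trans (Subgroup.map_top_of_surjective _ φ.surjective).symm))
    rcases hAB _ hQB hne with e | e | e
    · exact hB (e ⟨h, hh, rfl⟩)
    · exfalso
      have hAmap : A.map φ.toMonoidHom = A := Subgroup.eq_of_le_of_card_ge
        (by rintro _ ⟨u, hu, rfl⟩; exact hAinv x hx u hu)
        (by rw [Subgroup.card_map_of_injective (f := φ.toMonoidHom) φ.injective])
      exact hBA (Subgroup.map_injective (f := φ.toMonoidHom) φ.injective (e.trans hAmap.symm)).le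
    · exact e.le ⟨h, hh, rfl⟩
  have hcase : D ≤ (Q : Subgroup K) := by
    rcases hov D hQD hDtop with e | e | e
    · exact e
    · exact absurd ((hle H₂ h₂ h₂' (other H₁ H₂ h₁ h₂ h₂' h21 hov (e ▸ hDinv))).trans e.le) h21
    · exact absurd ((hle H₁ h₁ h₁' (other H₂ H₁ h₂ h₁ h₁' h12
        (fun H a b => (hov H a b).imp_right Or.symm) (e ▸ hDinv))).trans e.le) h12
  refine ⟨coatom_of_inter hM Q hNM (hcase.trans Subgroup.le_normalizer), fun htop => ?_⟩
  have hinv : ∀ x ∈ (S : Subgroup X), ∀ h ∈ H₁, MulAut.conjNormal (H := K) x h ∈ H₁ := by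
    intro x hx h hh
    have hxK : x ∈ K := htop ▸ Subgroup.mem_top x
    have hxH := h₁ ((hSK ⟨x, hxK⟩).1 hx)
    convert mul_mem (mul_mem hxH hh) (inv_mem hxH)
    exact Subtype.ext (by simp)
  exact h12 ((hle H₁ h₁ h₁' hinv).trans (hcase.trans h₂))

end CfsgLib.SplitBN
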