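import Cfsg.Agent.Lib.SplitBN.PMinimalGen
import Cfsg.Agent.Lib.SplitBN.Extra

/-!
# Overgroups of a Sylow 3-subgroup of `L₂(8)`
-/

set_option autoImplicit false
set_option linter.unusedSectionVars false
set_option maxRecDepth 100000

namespace CfsgLib.SplitBN

open Matrix

/-- In `SL₂` over a field of characteristic two an element of order three and an involution do not
commute. -/
theorem eq_one_of_comm_invol {F : Type*} [Field F] [CharP F 2] {A B : SpecialLinearGroup (Fin 2) F}
    (hA : A ^ 3 = 1) (hB : B * B = 1) (hB1 : B ≠ 1) (h : A * B = B * A) : A = 1 := by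
  have h2 : (2 : F) = 0 := CharTwo.two_eq_zero
  have hdA := A.2
  have hdB := B.2
  rw [Matrix.det_fin_two] at hdA hdB
  have eB : B.1 * B.1 = 1 := congrArg Subtype.val hB
  have eC : A.1 * B.1 = B.1 * A.1 := congrArg Subtype.val h
  have b00 := congrFun (congrFun eB 0) 0
  have b01 := congrFun (congrFun eB 0) 1
  have b10 := congrFun (congrFun eB 1) 0
  have c01 := congrFun (congrFun eC 0) 1
  have c10 := congrFun (congrFun eC 1) 0
  simp [Matrix.mul_apply, Fin.sum_univ_two] at b00 b01 b10 c01 c10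
  set a := B.1 0 0
  set b := B.1 0 1
  set c := B.1 1 0
  set d := B.1 1 1
  have ha' : b = 0 → a = 1 := fun hb => by
    have ha : (a + 1) * (a + 1) = 0 := by linear_combination b00 - c * hb + (a + 1) * h2
    linear_combination (mul_self_eq_zero.1 ha) - h2
  have htr : a + d = 0 := by
    by_contra hne
    have hb : b = 0 := (mul_eq_zero.1 (show b * (a + d) = 0 by
      linear_combination b01)).resolve_right hne
    exact hne (by linear_combination hdB + c * hb + (1 - d) * ha' hb + h2)
  have hAtr : A.1 0 0 + A.1 1 1 = 0 := by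
    by_contra hne
    have hb : b = 0 := (mul_eq_zero.1 (show b * (A.1 0 0 + A.1 1 1) = 0 by
      linear_combination c01 + A.1 0 1 * htr + (A.1 1 1 * b - A.1 0 1 * d) * h2)).resolve_right hne
    have hc : c = 0 := (mul_eq_zero.1 (show c * (A.1 0 0 + A.1 1 1) = 0 by
      linear_combination -c10 + A.1 1 0 * htr + (c * A.1 1 1 - A.1 1 0 * d) * h2)).resolve_right hne
    apply hB1
    ext i j
    fin_cases i <;> fin_cases j <;> simp
    · exact ha' hb
    · exact hb
    · exact hc
    · linear_combination htr - ha' hb - h2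
  have hA2 : A ^ 2 = 1 := by
    rw [pow_two]
    apply Subtype.ext
    rw [Matrix.SpecialLinearGroup.coe_mul, Matrix.SpecialLinearGroup.coe_one, Matrix.eta_fin_two A.1,
      Matrix.mul_fin_two, Matrix.one_fin_two]
    ext i j
    fin_cases i <;> fin_cases j <;> simp
    · linear_combination A.1 0 0 * hAtr - hdA - h2
    · linear_combination A.1 0 1 * hAtr
    · linear_combination A.1 1 0 * hAtr
    · linear_combination A.1 1 1 * hAtr - hdA - h2
  rwa [pow_succ, hA2, one_mul] at hA

theorem center_sl_two_eq_bot {F : Type*} [Field F] [Fintype F] [CharP F 2] :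
    Subgroup.center (SpecialLinearGroup (Fin 2) F) = ⊥ := by
  classical
  rw [Subgroup.eq_bot_iff_forall]
  intro x hx
  obtain ⟨r, hr, hx'⟩ := Matrix.SpecialLinearGroup.mem_center_iff.1 hx
  apply Subtype.ext
  rw [← hx', Matrix.SpecialLinearGroup.coe_one]
  have h2 : (2 : F) = 0 := CharTwo.two_eq_zero
  rw [Fintype.card_fin] at hr
  have : (r - 1) * (r - 1) = 0 := by linear_combination hr + (1 - r) * h2
  rw [sub_eq_zero.1 (mul_self_eq_zero.1 this), map_one]

/-- A socle `L₂(8)` in characteristic 3. -/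
theorem pminimal_lTwoEight {X : Type*} [Group X] [Finite X] {K : Subgroup X} [K.Normal]
    [Fact (Nat.Prime 3)] (hX : Cfsg.IsPMinimal 3 X) {F : Type} [Field F] [Fintype F] [DecidableEq F]
    (hF : Fintype.card F = 8) (e : ↥K ≃* ProjectiveSpecialLinearGroup (Fin 2) F) (U : Sylow 3 ↥K) :
    IsCoatom (Subgroup.normalizer (((U : Subgroup K).map K.subtype : Subgroup X) : Set X)) := by
  haveI : CharP F 2 := charP_of_card_eq_prime_pow (f := 3) (by rw [hF]; norm_num)
  haveI := Matrix.ProjectiveSpecialLinearGroup.rank_two_simple (F := F)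
    (by rw [Nat.card_eq_fintype_card, hF]; norm_num)
  haveI : Nontrivial ↥K := e.toEquiv.nontrivial
  haveI : IsSimpleGroup ↥K :=
    IsSimpleGroup.isSimpleGroup_of_surjective e.symm.toMonoidHom e.symm.surjective
  have hG : Nat.card ↥K = 504 := by
    rw [Nat.card_congr e.toEquiv]
    have := CfsgLib.Classical.card_PSL_mul hF 2 (by norm_num)
    rw [show Nat.gcd 2 (8 - 1) = 1 by decide, Fin.prod_univ_two] at this
    norm_num at this
    rw [Nat.card_eq_fintype_card]
    omega
  have hU9 : Nat.card (U : Subgroup ↥K) = 9 := by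
    rw [U.card_eq_multiplicity, hG, show (504 : ℕ) = 3 ^ 2 * 56 by norm_num,
      Nat.factorization_mul (by norm_num) (by norm_num), Finsupp.add_apply,
      Nat.Prime.factorization_pow (by norm_num), Nat.factorization_eq_zero_of_not_dvd (by norm_num)]
    simp
  refine coatom_of_overgroups hX U (not_normal_sylow U (fun h => ?_) fun h => ?_) fun H hQH hH => ?_
  · rw [h] at hU9; simp at hU9
  · rw [h, Subgroup.card_top, hG] at hU9; omega
  obtain ⟨g₀, hg₀⟩ := exists_orderOf_nine hF
  have hidx : 9 ≤ H.index := by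
    by_contra hlt
    exact hH (eq_top_of_orderOf_nine (show orderOf (e.symm g₀) = 9 by rw [MulEquiv.orderOf_eq, hg₀])
      (by omega))
  set P := (U : Subgroup ↥K).subgroupOf H with hP
  suffices hn : P.Normal by exact (Subgroup.normal_subgroupOf_iff_le_normalizer hQH).1 hn
  have hPc : Nat.card P = 9 :=
    (Nat.card_congr (Subgroup.subgroupOfEquivOfLe hQH).toEquiv).trans hU9
  have hHmul := H.card_mul_index
  rw [hG] at hHmul
  obtain ⟨c, hc⟩ : 9 ∣ Nat.card H := hU9 ▸ Subgroup.card_dvd_of_le hQH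
  have hPi : P.index = c := by
    have := P.card_mul_index
    rw [hPc] at this
    omega
  have hc56 : c ∈ Nat.divisors 56 := Nat.mem_divisors.2 ⟨⟨H.index, by
    rw [hc, mul_assoc] at hHmul; omega⟩, by norm_num⟩
  have hc' : c = 1 ∨ c = 2 ∨ c = 4 := by
    rw [hc] at hHmul
    revert hHmul
    generalize H.index = k at hidx ⊢
    intro hHmul
    fin_cases hc56 <;> simp <;> omega
  rcases hc' with rfl | rfl | rfl
  · rw [Subgroup.index_eq_one.1 hPi]; infer_instance
  · exact Subgroup.normal_of_index_eq_two hPi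
  -- order 36
  by_contra hn
  have hH36 : Nat.card H = 36 := by omega
  let P' : Sylow 3 ↥H := (IsPGroup.of_card (p := 3) (n := 2) (by rw [hPc]; norm_num) :
    IsPGroup 3 P).toSylow (by rw [hPi]; norm_num)
  set N := P.normalCore with hN
  have hN4 : N.index ∣ Nat.factorial 4 := by
    rw [hN, Subgroup.normalCore_eq_ker, Subgroup.index_ker, ← hPi, Subgroup.index, ← Nat.card_perm]
    exact Subgroup.card_subgroup_dvd_card _
  have hNc : Nat.card N = 3 := by
    have h1 := N.card_mul_index
    rw [hH36] at h1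
    have h2 : Nat.card N ∣ 9 := hPc ▸ Subgroup.card_dvd_of_le P.normalCore_le
    have h3 : Nat.card N ≠ 9 := fun h => hn (by
      rw [← Subgroup.eq_of_le_of_card_ge P.normalCore_le (by rw [hPc, ← h])]
      exact P.normalCore_normal)
    have h4 : Nat.card N ≠ 1 := fun h => by
      rw [h, one_mul] at h1
      rw [h1] at hN4
      norm_num [Nat.factorial] at hN4
    have hmem : Nat.card N ∈ Nat.divisors 9 := Nat.mem_divisors.2 ⟨h2, by norm_num⟩
    revert h3 h4
    generalize Nat.card N = k at hmem ⊢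
    fin_cases hmem <;> simp
  obtain ⟨n, hn3⟩ := exists_prime_orderOf_dvd_card' (G := N) 3 hNc.symm.dvd
  have hNmem : ∀ y ∈ N, y = 1 ∨ y = (n : H) ∨ y = (n : H)⁻¹ := by
    intro y hy
    have htop : Subgroup.zpowers n = ⊤ :=
      Subgroup.eq_top_of_card_eq _ (by rw [Nat.card_zpowers, hn3, hNc])
    obtain ⟨k, hk⟩ := Subgroup.mem_zpowers_iff.1 (show (⟨y, hy⟩ : N) ∈ Subgroup.zpowers n by
      rw [htop]; trivial)
    rw [← zpow_mod_orderOf, hn3] at hk
    have hk' := congrArg Subtype.val hk
    have h0 := Int.emod_nonneg k (show (3 : ℤ) ≠ 0 by norm_num)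
    have h1 := Int.emod_lt_of_pos k (show (0 : ℤ) < 3 by norm_num)
    have h3 : ((n : H)) ^ (3 : ℕ) = 1 := by
      rw [← hn3]; exact congrArg Subtype.val (pow_orderOf_eq_one n)
    rcases (show k % (3 : ℤ) = 0 ∨ k % (3 : ℤ) = 1 ∨ k % (3 : ℤ) = 2 by omega) with h | h | h <;>
      simp only [Nat.cast_ofNat, h] at hk' <;> simp at hk'
    · exact Or.inl hk'.symm
    · exact Or.inr (Or.inl hk'.symm)
    · refine Or.inr (Or.inr (hk'.symm.trans (eq_inv_of_mul_eq_one_left ?_)))
      rw [← pow_succ]
      exact h3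
  have hn1 : (n : H) ≠ 1 := fun h => by
    rw [show n = 1 from Subtype.ext h, orderOf_one] at hn3; norm_num at hn3
  -- an involution centralising the element
  haveI : Fact (Nat.Prime 2) := ⟨Nat.prime_two⟩
  obtain ⟨T⟩ : Nonempty (Sylow 2 ↥H) := inferInstance
  have hT : Nat.card (T : Subgroup H) = 4 := by
    rw [T.card_eq_multiplicity, hH36, show (36 : ℕ) = 2 ^ 2 * 9 by norm_num,
      Nat.factorization_mul (by norm_num) (by norm_num), Finsupp.add_apply,
      Nat.Prime.factorization_pow (by norm_num), Nat.factorization_eq_zero_of_not_dvd (by norm_num)]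
    simp
  have hact : ∀ t ∈ (T : Subgroup H), t * n * t⁻¹ = n ∨ t * n * t⁻¹ = (n : H)⁻¹ := fun t _ => by
    rcases hNmem _ (P.normalCore_normal.conj_mem _ n.2 t) with h | h | h
    · exact absurd (by rw [show (n : H) = t⁻¹ * (t * n * t⁻¹) * t by group, h]; group) hn1
    · exact Or.inl h
    · exact Or.inr h
  obtain ⟨w, hwT, hw1, hwc⟩ : ∃ w ∈ (T : Subgroup H), w ≠ 1 ∧ w * n * w⁻¹ = n := by
    by_contra hno
    push Not at hno
    classical
    haveI : Fintype (T : Subgroup H) := Fintype.ofFinite _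
    have hinv : ∀ t : (T : Subgroup H), t ≠ 1 → (t : H) * n * (t : H)⁻¹ = (n : H)⁻¹ := fun t ht =>
      (hact t t.2).resolve_left (hno t t.2 fun h => ht (Subtype.ext h))
    obtain ⟨a, ha⟩ : ∃ a : (T : Subgroup H), a ≠ 1 :=
      Fintype.exists_ne_of_one_lt_card (by rw [← Nat.card_eq_fintype_card, hT]; norm_num) 1
    obtain ⟨b, hb, hab⟩ : ∃ b : (T : Subgroup H), b ≠ 1 ∧ a * b ≠ 1 := by
      by_contra hb
      push Not at hb
      have hsub : (Finset.univ : Finset (T : Subgroup H)) ⊆ {1, a⁻¹} := fun b _ => by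
        by_cases h : b = 1
        · simp [h]
        · simp [eq_inv_of_mul_eq_one_right (hb b h)]
      have := (Finset.card_le_card hsub).trans Finset.card_le_two
      rw [Finset.card_univ, ← Nat.card_eq_fintype_card, hT] at this
      norm_num at this
    refine hno ((a * b : (T : Subgroup H)) : H) (a * b).2 (fun h => hab (Subtype.ext h)) ?_
    rw [Subgroup.coe_mul, show (a : H) * b * n * ((a : H) * b)⁻¹ =
      (a : H) * ((b : H) * n * (b : H)⁻¹) * (a : H)⁻¹ by group, hinv b hb,
      show (a : H) * (n : H)⁻¹ * (a : H)⁻¹ = ((a : H) * n * (a : H)⁻¹)⁻¹ by group, hinv a ha, inv_inv]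
  obtain ⟨w, hw1, hw2, hwc⟩ : ∃ w : H, w ≠ 1 ∧ w * w = 1 ∧ w * n = n * w := by
    have hc : Commute w (n : H) := mul_inv_eq_iff_eq_mul.1 hwc
    have h4 : w ^ 4 = 1 := by
      have := pow_card_eq_one' (x := (⟨w, hwT⟩ : (T : Subgroup H)))
      rw [hT] at this
      exact congrArg Subtype.val this
    by_cases h : w * w = 1
    · exact ⟨w, hw1, h, hc⟩
    · exact ⟨w * w, h, by rw [← pow_two, ← pow_two, ← pow_mul, h4], (hc.mul_left hc).eq⟩
  -- lift to `SL₂`
  let f : ↥K ≃* SpecialLinearGroup (Fin 2) F :=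
    e.trans ((QuotientGroup.quotientMulEquivOfEq center_sl_two_eq_bot).trans QuotientGroup.quotientBot)
  let g : ↥H →* SpecialLinearGroup (Fin 2) F := f.toMonoidHom.comp H.subtype
  have hg : Function.Injective g := f.injective.comp H.subtype_injective
  refine hn1 (hg (by
    rw [map_one]
    exact eq_one_of_comm_invol (A := g n) (B := g w)
      (by rw [← map_pow, ← hn3, ← Subgroup.coe_pow, pow_orderOf_eq_one, Subgroup.coe_one, map_one])
      (by rw [← map_mul, hw2, map_one]) (fun h => hw1 (hg (h.trans (map_one g).symm)))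
      (by rw [← map_mul, ← map_mul, hwc])))

end CfsgLib.SplitBN
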