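import Cfsg.Agent.Lib.SplitBN.AutFixTitsCert

/-!
# Certificates for the second centre of a Sylow 2-subgroup of the Tits group
-/

set_option autoImplicit false
set_option maxRecDepth 100000
set_option maxHeartbeats 4000000

namespace CfsgLib.SplitBN.AutFixTits

open CfsgLib.Chev.TwF4 CfsgLib.Chev.TwF4.Tits CfsgLib.Chev.TwF4.Tits.Tr CfsgLib.Chev.TwF4.Bin

/-- The products commuting with one element up to the central involution, on the test vector. -/
noncomputable def commZ (l : List ℕ) : List Bool :=
  List.zipWith (· || ·)
    (List.zipWith (fun a b => eqv52 a (pl l b)) (lv order (pl l key)) (lv order key))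
    (List.zipWith (fun a b => eqv52 a (pl l b)) (lv order (pl l key)) (lv order (pl [10] key)))

/-- The same for several elements. -/
noncomputable def commAllZ : List (List ℕ) → List Bool
  | [] => (bl 12).map fun _ => true
  | l :: ls => List.zipWith (· && ·) (commZ l) (commAllZ ls)

/-- The exponents passing the test. -/
noncomputable def survZ (ls : List (List ℕ)) : List (List Bool) :=
  (((bl 12).zip (commAllZ ls)).filter Prod.snd).map Prod.fst

/-- The test elements. -/
def gensZ : List (List ℕ) := gens0 ++ gens1

theorem insideZ : (survZ gensZ).all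
    (fun e => decide (e ∈ [expOf [], expOf [10], expOf [8], expOf [8, 10]])) = true := by
  decide +kernel

theorem rel_eight : ([0, 1, 3] : List ℕ).all (fun a =>
    rootsC (posR 8 ++ posR a) == rootsC (posR a ++ posR 8) ||
      rootsC (posR 8 ++ posR a) == rootsC (posR a ++ posR 8 ++ posR 10)) = true := by
  decide +kernel

theorem y0_conj : ([[10], [8], [8, 10]] : List (List ℕ)).all (fun u =>
    ([[10], [8], [8, 10]] : List (List ℕ)).any fun v =>
      rootsC (wordR y0w ++ u.flatMap posR) == rootsC (v.flatMap posR ++ wordR y0w)) = true := by
  decide +kernel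

theorem y1_move : ([[], [10], [8], [8, 10]] : List (List ℕ)).all (fun v =>
    !eqv52 (gW y1w (pl [8] key)) (pl v (gW y1w key))) = true := by
  decide +kernel

theorem y0_move : eqv52 (gW y0w (pl [10] key)) (pl [10] (gW y0w key)) = false ∧
    eqv52 (pl [10] key) key = false := by
  decide +kernel

end CfsgLib.SplitBN.AutFixTits
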