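import Cfsg.Agent.Lib.SplitBN.PMinimalU33
import Cfsg.Agent.Lib.SplitBN.AutFixTits
import Cfsg.Agent.Lib.SplitBN.PMinimalTitsCert

/-!
# No 2-minimal group has socle the Tits group
-/

set_option autoImplicit false
set_option maxRecDepth 100000
set_option linter.unusedSectionVars false
set_option maxHeartbeats 1600000

namespace CfsgLib.SplitBN

/-- Elements of a subgroup commuting up to a central involution are stable. -/
theorem upto_center_invariant {Γ : Type*} [Group Γ] (Δ : Subgroup Γ) [Finite ↥Δ] (S : Subgroup ↥Δ)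
    (z : ↥Δ) (hzS : z ∈ S) (hz1 : z ≠ 1) (hzc : ∀ s ∈ S, z * s = s * z)
    (honly : ∀ y ∈ S, (∀ s ∈ S, y * s = s * y) → y = 1 ∨ y = z) (φ : ↥Δ ≃* ↥Δ)
    (hφ : ∀ u ∈ S, φ u ∈ S) :
    φ z = z ∧ ∀ w, (w ∈ S ∧ ∀ s ∈ S, w * s = s * w ∨ w * s = s * w * z) →
      (φ w ∈ S ∧ ∀ s ∈ S, φ w * s = s * φ w ∨ φ w * s = s * φ w * z) := by
  have hmap : S.map φ.toMonoidHom = S := Subgroup.eq_of_le_of_card_ge
    (by rintro _ ⟨u, hu, rfl⟩; exact hφ u hu) (by rw [Subgroup.card_map_of_injective φ.injective])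
  have hsurj : ∀ s ∈ S, ∃ u ∈ S, φ u = s := fun s hs => by
    rw [← hmap] at hs
    exact hs
  have hz : φ z = z := by
    refine (honly _ (hφ z hzS) fun s hs => ?_).resolve_left fun e =>
      hz1 (φ.injective (e.trans (map_one φ).symm))
    obtain ⟨u, hu, rfl⟩ := hsurj s hs
    rw [← map_mul, hzc u hu, map_mul]
  refine ⟨hz, fun w ⟨hw, hwc⟩ => ⟨hφ w hw, fun s hs => ?_⟩⟩
  obtain ⟨u, hu, rfl⟩ := hsurj s hs
  rcases hwc u hu with h | h
  · exact Or.inl (by rw [← map_mul, h, map_mul])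
  · exact Or.inr (by rw [← map_mul, h, map_mul, map_mul, hz])

/-- Two invariant overgroups from a central involution and a second centre. -/
theorem two_invariant_sub {Γ : Type*} [Group Γ] (Δ : Subgroup Γ) [Finite ↥Δ] (S : Subgroup ↥Δ)
    (z y₀ y₁ : ↥Δ) (hzS : z ∈ S) (hz1 : z ≠ 1) (hzc : ∀ s ∈ S, z * s = s * z)
    (honly : ∀ y ∈ S, (∀ s ∈ S, y * s = s * y) → y = 1 ∨ y = z)
    (hzy1 : z * y₁ = y₁ * z) (hzy0 : z * y₀ ≠ y₀ * z)
    (hy0 : ∀ w, (w ∈ S ∧ ∀ s ∈ S, w * s = s * w ∨ w * s = s * w * z) →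
      (y₀ * w * y₀⁻¹ ∈ S ∧ ∀ s ∈ S, y₀ * w * y₀⁻¹ * s = s * (y₀ * w * y₀⁻¹) ∨
        y₀ * w * y₀⁻¹ * s = s * (y₀ * w * y₀⁻¹) * z))
    (hy1 : ¬ ∀ w, (w ∈ S ∧ ∀ s ∈ S, w * s = s * w ∨ w * s = s * w * z) →
      (y₁ * w * y₁⁻¹ ∈ S ∧ ∀ s ∈ S, y₁ * w * y₁⁻¹ * s = s * (y₁ * w * y₁⁻¹) ∨
        y₁ * w * y₁⁻¹ * s = s * (y₁ * w * y₁⁻¹) * z))
    (htop : ∀ H : Subgroup ↥Δ, S ≤ H → y₀ ∈ H → y₁ ∈ H → H = ⊤) :
    ∃ H₁ H₂ : Subgroup ↥Δ, S ≤ H₁ ∧ H₁ ≠ ⊤ ∧ S ≤ H₂ ∧ H₂ ≠ ⊤ ∧
      (∀ φ : ↥Δ ≃* ↥Δ, (∀ u ∈ S, φ u ∈ S) → (∀ h ∈ H₁, φ h ∈ H₁) ∧ (∀ h ∈ H₂, φ h ∈ H₂)) ∧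
      H₁ ⊔ H₂ = ⊤ := by
  set W : Set ↥Δ := {w | w ∈ S ∧ ∀ s ∈ S, w * s = s * w ∨ w * s = s * w * z} with hW
  have hWφ : ∀ φ : ↥Δ ≃* ↥Δ, (∀ u ∈ S, φ u ∈ S) → ∀ w ∈ W, φ w ∈ W := fun φ hφ w hw =>
    (upto_center_invariant Δ S z hzS hz1 hzc honly φ hφ).2 w hw
  set A := Subgroup.centralizer {z | z ∈ S ∧ ∀ s ∈ S, z * s = s * z} with hA
  set B := Subgroup.normalizer W with hB
  have hSA : S ≤ A := fun s hs => Subgroup.mem_centralizer_iff.2 fun z hz => hz.2 s hs
  have hSB : S ≤ B := fun s hs => mem_normalizer_of_mapsTo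
    (hWφ (MulAut.conj s) fun u hu => mul_mem (mul_mem hs hu) (inv_mem hs))
  have h1A : y₁ ∈ A := Subgroup.mem_centralizer_iff.2 fun y hy => by
    rcases honly y hy.1 hy.2 with rfl | rfl
    · rw [one_mul, mul_one]
    · exact hzy1
  refine ⟨A, B, hSA, fun h => hzy0 ?_, hSB, fun h => hy1 fun w hw => ?_, fun φ hφ =>
    ⟨fun h hh => centralizer_center_invariant hφ hh,
      fun h hh => mapsTo_normalizer_invariant (hWφ φ hφ) hh⟩,
    htop _ (hSA.trans le_sup_left) (Subgroup.mem_sup_right (mem_normalizer_of_mapsTo hy0))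
      (Subgroup.mem_sup_left h1A)⟩
  · exact Subgroup.mem_centralizer_iff.1 (show y₀ ∈ A by rw [h]; trivial) z ⟨hzS, hzc⟩
  · exact (Subgroup.mem_set_normalizer_iff.1 (show y₁ ∈ B by rw [h]; trivial) w).1 hw

/-- A subgroup of odd index gives a nontrivial Sylow subgroup. -/
theorem exists_sylow_sub {Γ : Type*} [Group Γ] (Δ : Subgroup Γ) [Finite ↥Δ] {p n : ℕ}
    [Fact p.Prime] (S : Subgroup ↥Δ) (hc : Nat.card S = p ^ (n + 1)) (hi : ¬ p ∣ S.index) :
    ∃ T : Sylow p ↥Δ, (T : Subgroup ↥Δ) = S ∧ (T : Subgroup ↥Δ) ≠ ⊥ := by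
  refine ⟨(IsPGroup.of_card hc).toSylow hi, rfl, fun h => ?_⟩
  have h' : S = ⊥ := h
  rw [h', Subgroup.card_bot] at hc
  exact absurd hc.symm (Nat.one_lt_pow (by omega) (Fact.out : p.Prime).one_lt).ne'

namespace AutFixTits

open CfsgLib.Chev.TwF4 CfsgLib.Chev.TwF4.Tits CfsgLib.Chev.TwF4.Tits.Tr CfsgLib.Chev.TwF4.Bin
open scoped Classical

theorem gl_roots : ∀ {l : List ℕ}, (∀ a ∈ l, a < 12) →
    (∀ r ∈ l.flatMap posR, r ∈ xroots) := fun hl r hr => by
  obtain ⟨a, ha, hra⟩ := List.mem_flatMap.1 hr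
  exact rootsU_pos_ok (hl a ha) r hra

theorem gl_single (a : ℕ) : gl [a] = gp a := by simp [gl]

theorem gl_pair (a b : ℕ) : gl [a, b] = gp a * gp b := by simp [gl]

theorem mul_right_vec {a b : ↥G} (h : a = b) (x : ℕ) : mv a (vz x) = mv b (vz x) := by rw [h]

/-- An exponent list whose product commutes with the test elements up to the central involution. -/
theorem mem_survZ {e : List Bool} (he : e.length = order.length)
    (hc : ∀ l ∈ gensZ, gprod order e * gl l = gl l * gprod order e ∨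
      gprod order e * gl l = gl l * gprod order e * gp 10) : e ∈ survZ gensZ := by
  have hls : ∀ l ∈ gensZ, ∀ a ∈ l, a < 12 := by decide
  have hZ : ∀ l, commZ l = (bl 12).map fun e =>
      eqv52 (pW order e (pl l key)) (pl l (pW order e key)) ||
        eqv52 (pW order e (pl l key)) (pl l (pW order e (pl [10] key))) := fun l => by
    rw [commZ, lv_eq, lv_eq, lv_eq, show order.length = 12 from rfl, List.zipWith_map,
      List.zipWith_self, List.zipWith_map, List.zipWith_self, List.zipWith_map, List.zipWith_self]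
  have hA : ∀ ls, commAllZ ls = (bl 12).map fun e => ls.all fun l =>
      eqv52 (pW order e (pl l key)) (pl l (pW order e key)) ||
        eqv52 (pW order e (pl l key)) (pl l (pW order e (pl [10] key))) := by
    intro ls
    induction ls with
    | nil => rfl
    | cons l ls ih =>
      rw [commAllZ, ih, hZ, List.zipWith_map, List.zipWith_self]
      simp
  rw [survZ, hA, List.zip_map_right, List.zip_eq_zipWith, List.zipWith_self, List.map_map]
  refine List.mem_map.2 ⟨(e, true), List.mem_filter.2 ⟨List.mem_map.2 ⟨e, (bl_spec _ _).2 he, ?_⟩, rfl⟩,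
    rfl⟩
  refine Prod.ext rfl ?_
  simp only [Function.comp_apply, Prod.map_snd, List.all_eq_true, Bool.or_eq_true]
  intro l hl
  have hspec : ∀ x, mv (gprod order e) (vz x) = vz (pW order e x) := fun x =>
    pW_spec _ _ _ order_lt
  rcases hc l hl with h | h
  · refine Or.inl ((eqv52_iff _ _).2 ?_)
    have h1 := mul_right_vec h key
    simp only [mv_mul, gl_spec (hls l hl), hspec] at h1
    exact h1
  · refine Or.inr ((eqv52_iff _ _).2 ?_)
    have h1 := mul_right_vec h key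
    rw [← gl_single 10] at h1
    simp only [mv_mul, gl_spec (hls l hl), gl_spec (show ∀ a ∈ [10], a < 12 by decide), hspec] at h1
    exact h1

theorem gl_val {l : List ℕ} (hl : ∀ a ∈ l, a < 12) :
    ((gl l : ↥G) : _) = rootsU (l.flatMap posR) := by
  induction l with
  | nil => simp [gl, rootsU, CfsgLib.Chev.wU]
  | cons a l ih =>
    rw [gl, List.map_cons, List.prod_cons, ← gl, Subgroup.coe_mul, gp_val (hl a (by simp)),
      ih fun b hb => hl b (by simp [hb]), List.flatMap_cons, ← rootsU_append]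

theorem eight_comm {u : ↥G} (hu : u ∈ Upos) :
    gp 8 * u = u * gp 8 ∨ gp 8 * u = u * gp 8 * gp 10 := by
  refine upos_induction (p := fun u => gp 8 * u = u * gp 8 ∨ gp 8 * u = u * gp 8 * gp 10)
    (Or.inl (by simp)) (fun a ha y hy hyp => ?_) u hu
  have ha' : a < 12 := by fin_cases ha <;> norm_num
  have h8 : (8 : ℕ) < 12 := by norm_num
  have h10 : (10 : ℕ) < 12 := by norm_num
  have h := List.all_eq_true.1 rel_eight a ha
  simp only [Bool.or_eq_true, beq_iff_eq] at h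
  have hc : gp 8 * gp a = gp a * gp 8 ∨ gp 8 * gp a = gp a * gp 8 * gp 10 := by
    rcases h with h | h
    · refine Or.inl (Subtype.ext ?_)
      simp only [Subgroup.coe_mul, gp_val h8, gp_val ha', ← rootsU_append]
      exact rootsU_eq
        (fun r hr => (List.mem_append.1 hr).elim (rootsU_pos_ok h8 r) (rootsU_pos_ok ha' r))
        (fun r hr => (List.mem_append.1 hr).elim (rootsU_pos_ok ha' r) (rootsU_pos_ok h8 r)) h
    · refine Or.inr (Subtype.ext ?_)
      simp only [Subgroup.coe_mul, gp_val h8, gp_val ha', gp_val h10, ← rootsU_append]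
      exact rootsU_eq
        (fun r hr => (List.mem_append.1 hr).elim (rootsU_pos_ok h8 r) (rootsU_pos_ok ha' r))
        (fun r hr => (List.mem_append.1 hr).elim
          (fun hr' => (List.mem_append.1 hr').elim (rootsU_pos_ok ha' r) (rootsU_pos_ok h8 r))
          (rootsU_pos_ok h10 r)) h
  have hz := z_central hy
  have hzz : gp 10 * gp 10 = (1 : ↥G) := gp_sq h10 rel_z_sq.1
  rcases hc with h1 | h1 <;> rcases hyp with h2 | h2
  · left; rw [← mul_assoc, h1, mul_assoc, h2, ← mul_assoc]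
  · right; rw [← mul_assoc, h1, mul_assoc, h2]; group
  · right
    rw [← mul_assoc, h1, show gp a * gp 8 * gp 10 * y = gp a * gp 8 * (gp 10 * y) by group, hz,
      show gp a * gp 8 * (y * gp 10) = gp a * (gp 8 * y) * gp 10 by group, h2]
    group
  · left
    rw [← mul_assoc, h1, show gp a * gp 8 * gp 10 * y = gp a * gp 8 * (gp 10 * y) by group, hz,
      show gp a * gp 8 * (y * gp 10) = gp a * (gp 8 * y) * gp 10 by group, h2,
      show gp a * (y * gp 8 * gp 10) * gp 10 = gp a * y * gp 8 * (gp 10 * gp 10) by group, hzz, mul_one]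

/-- The four elements of the second centre. -/
def InV (x : ↥G) : Prop := ∃ v ∈ ([[], [10], [8], [8, 10]] : List (List ℕ)), x = gl v

theorem v_upto {x : ↥G} (hx : InV x) {u : ↥G} (hu : u ∈ Upos) :
    x * u = u * x ∨ x * u = u * x * gp 10 := by
  obtain ⟨v, hv, rfl⟩ := hx
  simp only [List.mem_cons, List.not_mem_nil, or_false] at hv
  have hz := z_central hu
  rcases hv with rfl | rfl | rfl | rfl
  · exact Or.inl (by simp [gl])
  · exact Or.inl (by rw [gl_single, hz])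
  · rw [gl_single]; exact eight_comm hu
  · rw [gl_pair, mul_assoc, hz, ← mul_assoc]
    rcases eight_comm hu with h | h
    · exact Or.inl (by rw [h, mul_assoc])
    · exact Or.inr (by rw [h]; group)

theorem gprod_expOf {e : List Bool}
    (he : e ∈ [expOf [], expOf [10], expOf [8], expOf [8, 10]]) : InV (gprod order e) := by
  simp only [List.mem_cons, List.not_mem_nil, or_false] at he
  rcases he with rfl | rfl | rfl | rfl
  · exact ⟨[], by simp, by simp [gprod_expOf_nil, gl]⟩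
  · exact ⟨[10], by simp, by simp [gprod_expOf_ten, gl]⟩
  · exact ⟨[8], by simp, by simp [gprod, order, expOf, gl]⟩
  · have hz : gp 8 * gp 10 = gp 10 * gp 8 :=
      (z_central (gp_mem (show (8 : ℕ) < 12 by norm_num))).symm
    refine ⟨[8, 10], by simp, ?_⟩
    rw [gl_pair]
    simp [gprod, order, expOf, hz]

theorem y0_inV {x : ↥G} (hx : InV x) : InV (gw y0w * x * (gw y0w)⁻¹) := by
  obtain ⟨u, hu, rfl⟩ := hx
  rw [List.mem_cons] at hu
  rcases hu with rfl | hu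
  · exact ⟨[], by simp, by simp [gl]⟩
  obtain ⟨v, hv, h⟩ := List.any_eq_true.1 (List.all_eq_true.1 y0_conj u hu)
  rw [beq_iff_eq] at h
  have hu' : ∀ b ∈ u, b < 12 := by fin_cases hu <;> decide
  have hv' : ∀ b ∈ v, b < 12 := by fin_cases hv <;> decide
  refine ⟨v, List.mem_cons_of_mem _ hv, ?_⟩
  have he : gw y0w * gl u = gl v * gw y0w := Subtype.ext (by
    simp only [Subgroup.coe_mul, gw_val, gl_val hu', gl_val hv', ← rootsU_append]
    exact rootsU_eq
      (fun r hr => (List.mem_append.1 hr).elim (wordR_ok _ r) (gl_roots hu' r))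
      (fun r hr => (List.mem_append.1 hr).elim (gl_roots hv' r) (wordR_ok _ r)) h)
  rw [he, mul_inv_cancel_right]

attribute [local irreducible] gl gw gprod gp gk

/-- A subgroup with a Sylow 2-subgroup and the two elements of odd order is everything. -/
theorem top_of_gens (H : Subgroup ↥(commutator ↥G))
    (hS : ∀ x : ↥(commutator ↥G), (x : ↥G) ∈ Upos → x ∈ H)
    {y₀ y₁ : ↥(commutator ↥G)} (h0 : (y₀ : ↥G) = gw y0w) (h1 : (y₁ : ↥G) = gw y1w)
    (hy0 : y₀ ∈ H) (hy1 : y₁ ∈ H) : H = ⊤ := by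
  haveI := TitsGrp.finite_G
  set M := H.map (commutator ↥G).subtype with hM
  have hMD : M ≤ commutator ↥G := Subgroup.map_subtype_le H
  have hUM : Upos ⊓ commutator ↥G ≤ M := fun x hx => ⟨⟨x, hx.2⟩, hS _ hx.1, rfl⟩
  have hp : ∀ a : ℕ, (ha : a < 12) → a ∈ [0, 2] → gp a ∈ M := fun a ha ha' =>
    hUM ⟨gp_mem ha, by
      have := gl_mem_commutator (l := [a]) (by simpa using ha) (by fin_cases ha' <;> decide)
      simpa [gl] using this⟩
  have hgk : ∀ (a : ℕ) (k : Fin 6), a < 12 → pos.getD a ([], 0, []) = ([], k, posR a) →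
      gp a = gk k := by
    intro a k ha he
    obtain ⟨-, hm, h⟩ := pos_spec a ha
    rw [show gp a = ⟨rootsU (posR a), hm⟩ from Subtype.ext (gp_val ha), h hm, he]
    simp [gw]
  have hn0 : gw n0 ∈ M := by
    have h := mul_mem (show gw y0w ∈ M from ⟨y₀, hy0, h0⟩) (hp 0 (by norm_num) (by simp))
    rw [hgk 0 0 (by norm_num) rfl] at h
    simpa [gw, y0w, n0, mul_assoc] using h
  have hn1 : gw n1 ∈ M := by
    have h := mul_mem (show gw y1w ∈ M from ⟨y₁, hy1, h1⟩) (hp 2 (by norm_num) (by simp))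
    rw [hgk 2 3 (by norm_num) rfl, show gk 3 = gw [3] by simp [gw], ← gw_append,
      show y1w ++ [3] = n1 ++ [3, 3] from rfl, gw_append, gw_eq_one rel_z_sq.2.2, mul_one] at h
    exact h
  set c := ((([0, 1, 0, 2, 3, 4, 3, 0, 1, 0, 2, 3, 4, 3, 0, 1, 0, 2, 3, 4, 3, 0, 1, 0, 2, 3, 4, 3],
    [(2, 7), (7, 11), (5, 10), (11, 14), (1, 6), (6, 21), (9, 19), (3, 31), (0, 37), (8, 0), (10, 23),
      (4, 33)]) : List (Fin 6) × List (ℕ × ℕ))) with hcdef
  have hr : (c, List.replicate 12 false) ∈ reps :=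
    List.mem_flatMap.2 ⟨c, by simp [cells, hcdef], List.mem_map.2 ⟨_, (bl_spec _ _).2 (by simp [hcdef]), rfl⟩⟩
  have hm : gw c.1 ∈ M := by
    rw [show c.1 = n0 ++ n1 ++ n0 ++ n1 ++ n0 ++ n1 ++ n0 ++ n1 from rfl]
    simp only [gw_append]
    exact mul_mem (mul_mem (mul_mem (mul_mem (mul_mem (mul_mem (mul_mem hn0 hn1) hn0) hn1) hn0) hn1)
      hn0) hn1
  have hbig := TitsGrp.relIndex_of_long hUM hm hr
    (by simp [coset, R, gprod, hcdef, List.replicate]) (by simp [hcdef])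
  have h2 : 2048 * 1024 ≤ Nat.card M := by
    rw [Subgroup.card_eq_card_quotient_mul_card_subgroup (Upos.subgroupOf M), mul_comm 2048]
    refine Nat.mul_le_mul hbig (TitsGrp.card_inf ▸ ?_)
    exact Nat.card_le_card_of_injective
      (fun x : ↥(Upos ⊓ commutator ↥G) => (⟨⟨x.1, hUM x.2⟩, x.2.1⟩ : Upos.subgroupOf M))
      (fun a b e => Subtype.ext (congrArg (fun z : Upos.subgroupOf M => ((z : M) : ↥G)) e))
  haveI := simple_commutator
  have h3 : H.index ≤ 8 := by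
    have e := H.card_mul_index
    rw [card_commutator, show Nat.card H = Nat.card M from
      (Subgroup.card_map_of_injective (commutator ↥G).subtype_injective).symm] at e
    by_contra hk
    have := Nat.mul_le_mul h2 (not_le.1 hk)
    omega
  by_contra hne
  have h4 := Nat.le_of_dvd (Nat.factorial_pos _) (card_dvd_index_factorial hne)
  have h5 := Nat.factorial_le h3
  rw [card_commutator] at h4
  have h8 : Nat.factorial 8 = 40320 := rfl
  omega

/-- The model. -/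
theorem exists_invariant :
    ∃ (T : Sylow 2 ↥(commutator ↥G)) (H₁ H₂ : Subgroup ↥(commutator ↥G)),
      (T : Subgroup ↥(commutator ↥G)) ≠ ⊥ ∧
      (T : Subgroup ↥(commutator ↥G)) ≤ H₁ ∧ H₁ ≠ ⊤ ∧
      (T : Subgroup ↥(commutator ↥G)) ≤ H₂ ∧ H₂ ≠ ⊤ ∧
      (∀ φ : ↥(commutator ↥G) ≃* ↥(commutator ↥G),
        (∀ u ∈ (T : Subgroup ↥(commutator ↥G)), φ u ∈ (T : Subgroup ↥(commutator ↥G))) →
          (∀ h ∈ H₁, φ h ∈ H₁) ∧ (∀ h ∈ H₂, φ h ∈ H₂)) ∧
      H₁ ⊔ H₂ = ⊤ := by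
  haveI := TitsGrp.finite_G
  haveI : Fact (Nat.Prime 2) := ⟨Nat.prime_two⟩
  set S := Upos.subgroupOf (commutator ↥G) with hSdef
  have hcardS : Nat.card S = 2 ^ (10 + 1) := by
    have h := TitsGrp.card_inf
    rw [← Nat.card_congr (Subgroup.subgroupOfEquivOfLe (inf_le_right : Upos ⊓ commutator ↥G ≤ _)).toEquiv,
      Subgroup.inf_subgroupOf_right] at h
    rw [hSdef, h]; norm_num
  obtain ⟨T, hT, hT0⟩ := exists_sylow_sub (commutator ↥G) S hcardS (fun hd => by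
    have e := S.card_mul_index
    rw [hcardS, card_commutator] at e
    omega)
  have hy0q : (y0w.countP fun k => decide (k = 2 ∨ k = 4)) % 2 = 0 := by decide
  have hy1q : (y1w.countP fun k => decide (k = 2 ∨ k = 4)) % 2 = 0 := by decide
  have hmemD : ∀ v ∈ ([[], [10], [8], [8, 10]] : List (List ℕ)), gl v ∈ commutator ↥G := fun v hv =>
    gl_mem_commutator (by fin_cases hv <;> decide) (by fin_cases hv <;> decide)
  have hmemU : ∀ v ∈ ([[], [10], [8], [8, 10]] : List (List ℕ)), gl v ∈ Upos := fun v hv =>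
    gl_mem (by fin_cases hv <;> decide)
  obtain ⟨z, hz⟩ : ∃ z : ↥(commutator ↥G), (z : ↥G) = gp 10 :=
    ⟨⟨_, gl_single 10 ▸ hmemD [10] (by simp)⟩, rfl⟩
  obtain ⟨y₀, hy₀⟩ : ∃ y : ↥(commutator ↥G), (y : ↥G) = gw y0w := ⟨⟨_, gw_mem_commutator hy0q⟩, rfl⟩
  obtain ⟨y₁, hy₁⟩ : ∃ y : ↥(commutator ↥G), (y : ↥G) = gw y1w := ⟨⟨_, gw_mem_commutator hy1q⟩, rfl⟩
  have hmv : ∀ {a b : ↥G} (x : ℕ), a = b → mv a (vz x) = mv b (vz x) := fun x h => by rw [h]
  have hz1 : z ≠ 1 := fun h => by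
    have h1 := hmv key (show gl [10] = (1 : ↥G) by rw [gl_single, ← hz, h, Subgroup.coe_one])
    rw [gl_spec (by decide), mv_one, ← eqv52_iff, y0_move.2] at h1
    exact Bool.false_ne_true h1
  have hzy0 : z * y₀ ≠ y₀ * z := fun h => by
    have h1 : gl [10] * gw y0w = gw y0w * gl [10] := by
      rw [gl_single, ← hz, ← hy₀, ← Subgroup.coe_mul, ← Subgroup.coe_mul, h]
    have h2 := hmv key h1
    simp only [mv_mul, gl_spec (show ∀ a ∈ [10], a < 12 by decide), gW_spec] at h2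
    rw [eq_comm, ← eqv52_iff, y0_move.1] at h2
    exact Bool.false_ne_true h2
  have hzy1 : z * y₁ = y₁ * z := Subtype.ext (by
    rw [Subgroup.coe_mul, Subgroup.coe_mul, hz, hy₁]
    exact gp_mul_comm_word (by norm_num) rel_z_y1)
  have hzc : ∀ s ∈ S, z * s = s * z := fun s hs => Subtype.ext (by
    rw [Subgroup.coe_mul, Subgroup.coe_mul, hz]
    exact z_central (Subgroup.mem_subgroupOf.1 hs))
  have hgen : ∀ l ∈ gensZ, ∃ s ∈ S, (s : ↥G) = gl l := fun l hl => by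
    have h1 : ∀ l ∈ gensZ, (∀ a ∈ l, a < 12) ∧
      (l.countP fun a => decide (a ∈ [1, 3, 7, 9])) % 2 = 0 := by decide
    exact ⟨⟨gl l, gl_mem_commutator (h1 l hl).1 (h1 l hl).2⟩,
      Subgroup.mem_subgroupOf.2 (gl_mem (h1 l hl).1), rfl⟩
  have honly : ∀ y ∈ S, (∀ s ∈ S, y * s = s * y) → y = 1 ∨ y = z := by
    intro y _ hyc
    obtain ⟨e, he, hye⟩ := centralizer_cases (ls := gens1) (by decide) fix1 outside1 (x := (y : ↥G))
      fun l hl => by
        obtain ⟨s, hs, hsl⟩ := hgen l (List.mem_append_right _ hl)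
        rw [← hsl, ← Subgroup.coe_mul, ← Subgroup.coe_mul, hyc s hs]
    have := List.all_eq_true.1 inside1 e he
    simp only [decide_eq_true_eq, List.mem_cons, List.not_mem_nil, or_false] at this
    rcases this with rfl | rfl
    · exact Or.inl (Subtype.ext (by rw [hye, gprod_expOf_nil, Subgroup.coe_one]))
    · exact Or.inr (Subtype.ext (by rw [hye, gprod_expOf_ten, hz]))
  have hW : ∀ w : ↥(commutator ↥G),
      (w ∈ S ∧ ∀ s ∈ S, w * s = s * w ∨ w * s = s * w * z) ↔ InV (w : ↥G) := by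
    intro w
    constructor
    · rintro ⟨hw, hwc⟩
      obtain ⟨e, hel, he⟩ := exists_gprod (Subgroup.mem_subgroupOf.1 hw)
      have hs := mem_survZ hel fun l hl => by
        obtain ⟨s, hs, hsl⟩ := hgen l hl
        rw [← he, ← hsl, ← hz, ← Subgroup.coe_mul, ← Subgroup.coe_mul, ← Subgroup.coe_mul]
        exact (hwc s hs).imp (congrArg Subtype.val) (congrArg Subtype.val)
      rw [he]
      exact gprod_expOf (of_decide_eq_true (List.all_eq_true.1 insideZ e hs))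
    · intro hw
      obtain ⟨v, hv, e⟩ := id hw
      refine ⟨Subgroup.mem_subgroupOf.2 (by rw [e]; exact hmemU v hv), fun s hs => ?_⟩
      refine (v_upto hw (Subgroup.mem_subgroupOf.1 hs)).imp (fun h => Subtype.ext ?_)
        (fun h => Subtype.ext ?_)
      · rw [Subgroup.coe_mul, Subgroup.coe_mul, h]
      · rw [Subgroup.coe_mul, Subgroup.coe_mul, Subgroup.coe_mul, hz, h]
  obtain ⟨A, B, a1, a2, b1, b2, hinv, hsup⟩ := two_invariant_sub (commutator ↥G) S z y₀ y₁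
    (Subgroup.mem_subgroupOf.2 (by rw [hz]; exact gp_mem (by norm_num))) hz1 hzc honly hzy1 hzy0
    (fun w hw => (hW _).2 (by
      have := y0_inV ((hW w).1 hw)
      rwa [← hy₀, ← Subgroup.coe_inv, ← Subgroup.coe_mul, ← Subgroup.coe_mul] at this))
    (fun hall => by
      obtain ⟨v, hv, e⟩ := (hW _).1 (hall ⟨gl [8], hmemD [8] (by simp)⟩
        ((hW _).2 ⟨[8], by simp, rfl⟩))
      rw [Subgroup.coe_mul, Subgroup.coe_mul, Subgroup.coe_inv, hy₁, mul_inv_eq_iff_eq_mul] at e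
      have h2 := hmv key e
      have hv' : ∀ a ∈ v, a < 12 := by fin_cases hv <;> decide
      simp only [mv_mul, gl_spec hv', gl_spec (show ∀ a ∈ [8], a < 12 by decide), gW_spec] at h2
      rw [← eqv52_iff] at h2
      have h3 := List.all_eq_true.1 y1_move v hv
      rw [h2] at h3
      exact Bool.false_ne_true h3)
    (fun H hSH h0 h1 => top_of_gens H (fun x hx => hSH (Subgroup.mem_subgroupOf.2 hx)) hy₀ hy₁ h0 h1)
  rw [← hT] at a1 b1 hinv
  exact ⟨T, A, B, hT0, a1, a2, b1, b2, hinv, hsup⟩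

end AutFixTits

/-- The transfer for a model which is a subgroup. -/
theorem not_pminimal_of_model_sub {X : Type*} [Group X] [Finite X] {p : ℕ} [Fact p.Prime]
    {K : Subgroup X} [K.Normal] [IsSimpleGroup K] (hX : Cfsg.IsPMinimal p X) {Γ : Type*} [Group Γ]
    (Δ : Subgroup Γ) [Finite ↥Δ] (e : K ≃* ↥Δ)
    (h : ∃ (T : Sylow p ↥Δ) (H₁ H₂ : Subgroup ↥Δ), (T : Subgroup ↥Δ) ≠ ⊥ ∧
      (T : Subgroup ↥Δ) ≤ H₁ ∧ H₁ ≠ ⊤ ∧ (T : Subgroup ↥Δ) ≤ H₂ ∧ H₂ ≠ ⊤ ∧
      (∀ φ : ↥Δ ≃* ↥Δ, (∀ u ∈ (T : Subgroup ↥Δ), φ u ∈ (T : Subgroup ↥Δ)) →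
        (∀ h ∈ H₁, φ h ∈ H₁) ∧ (∀ h ∈ H₂, φ h ∈ H₂)) ∧ H₁ ⊔ H₂ = ⊤) : False := by
  obtain ⟨T, H₁, H₂, h0, h1, h1', h2, h2', hinv, hgen⟩ := h
  exact not_pminimal_of_model hX e T h0 H₁ H₂ h1 h1' h2 h2' hinv hgen

open CfsgLib.Chev.TwF4 CfsgLib.Chev.TwF4.Tits in
/-- A socle `²F₄(2)'` is impossible in characteristic 2. -/
theorem not_pminimal_tits {X : Type*} [Group X] [Finite X] {K : Subgroup X} [K.Normal]
    [IsSimpleGroup K] [Fact (Nat.Prime 2)] (hX : Cfsg.IsPMinimal 2 X) (h : Cfsg.Lie.IsoTits K) :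
    False := by
  obtain ⟨e⟩ := h
  haveI := TitsGrp.finite_G
  exact not_pminimal_of_model_sub hX _ e AutFixTits.exists_invariant

end CfsgLib.SplitBN
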