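import Cfsg.Agent.Lib.SplitBN.PMinimalA6
import Cfsg.Agent.Lib.SplitBN.AutFixU33

/-!
# No 2-minimal group has socle `U₃(3)`
-/

set_option autoImplicit false
set_option linter.unusedSectionVars false
set_option maxRecDepth 100000

namespace CfsgLib.SplitBN

/-- A model of the socle with two generating invariant overgroups of a Sylow subgroup. -/
theorem not_pminimal_of_model {X : Type*} [Group X] [Finite X] {p : ℕ} [Fact p.Prime]
    {K : Subgroup X} [K.Normal] [IsSimpleGroup K] (hX : Cfsg.IsPMinimal p X) {Y : Type*} [Group Y]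
    [Finite Y] (e : K ≃* Y) (T : Sylow p Y) (hT : (T : Subgroup Y) ≠ ⊥) (H₁ H₂ : Subgroup Y)
    (h₁ : (T : Subgroup Y) ≤ H₁) (h₁' : H₁ ≠ ⊤) (h₂ : (T : Subgroup Y) ≤ H₂) (h₂' : H₂ ≠ ⊤)
    (hinv : ∀ φ : Y ≃* Y, (∀ u ∈ (T : Subgroup Y), φ u ∈ (T : Subgroup Y)) →
      (∀ h ∈ H₁, φ h ∈ H₁) ∧ (∀ h ∈ H₂, φ h ∈ H₂))
    (hgen : H₁ ⊔ H₂ = ⊤) : False := by
  obtain ⟨U⟩ : Nonempty (Sylow p K) := inferInstance
  obtain ⟨f, hf⟩ := exists_equiv_map_sylow e U T
  have hle : ∀ A : Subgroup Y, (T : Subgroup Y) ≤ A →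
      (U : Subgroup K) ≤ A.comap f.toMonoidHom := fun A hA u hu => hA ((hf u).2 hu)
  refine not_pminimal_of_invariant hX U (not_normal_sylow U (fun h => hT ?_) fun h => ?_)
    (H₁.comap f.toMonoidHom) (H₂.comap f.toMonoidHom) (hle _ h₁) (comap_equiv_ne_top f h₁')
    (hle _ h₂) (comap_equiv_ne_top f h₂') (fun φ hφ => ?_) ?_
  · rw [Subgroup.eq_bot_iff_forall]
    intro y hy
    have h1 : f.symm y ∈ (U : Subgroup K) := (hf _).1 (by rw [f.apply_symm_apply]; exact hy)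
    rw [h, Subgroup.mem_bot] at h1
    exact f.symm.injective (h1.trans (map_one f.symm).symm)
  · exact comap_equiv_ne_top f h₁' (top_le_iff.1 (h.symm.le.trans (hle _ h₁)))
  · have h := hinv ((f.symm.trans φ).trans f) fun u hu => (hf _).2 (hφ _ ((hf _).1 (by simpa using hu)))
    exact ⟨fun k hk => by simpa using h.1 (f k) hk, fun k hk => by simpa using h.2 (f k) hk⟩
  · rw [← (Subgroup.map_injective (f := f.toMonoidHom) f.injective).eq_iff, Subgroup.map_sup,
      Subgroup.map_comap_eq_self_of_surjective f.surjective,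
      Subgroup.map_comap_eq_self_of_surjective f.surjective, hgen,
      Subgroup.map_top_of_surjective _ f.surjective]

/-- The centraliser of the centre of a subgroup is invariant. -/
theorem centralizer_center_invariant {Y : Type*} [Group Y] [Finite Y] {T : Subgroup Y} {φ : Y ≃* Y}
    (hφ : ∀ u ∈ T, φ u ∈ T) {h : Y}
    (hh : h ∈ Subgroup.centralizer {z | z ∈ T ∧ ∀ s ∈ T, z * s = s * z}) :
    φ h ∈ Subgroup.centralizer {z | z ∈ T ∧ ∀ s ∈ T, z * s = s * z} := by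
  have hmap : T.map φ.toMonoidHom = T := Subgroup.eq_of_le_of_card_ge
    (by rintro _ ⟨u, hu, rfl⟩; exact hφ u hu) (by rw [Subgroup.card_map_of_injective φ.injective])
  rw [Subgroup.mem_centralizer_iff] at hh ⊢
  rintro z ⟨hz, hzc⟩
  rw [← hmap] at hz
  obtain ⟨y, hy, rfl⟩ := hz
  have := hh y ⟨hy, fun s hs => φ.injective (by simpa using hzc _ (hφ s hs))⟩
  simpa using congrArg φ this

/-- The normaliser of an invariant finite set is invariant. -/
theorem mapsTo_normalizer_invariant {Y : Type*} [Group Y] [Finite Y] {W : Set Y} {φ : Y ≃* Y}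
    (hφ : ∀ w ∈ W, φ w ∈ W) {h : Y} (hh : h ∈ Subgroup.normalizer W) :
    φ h ∈ Subgroup.normalizer W := by
  have hback : ∀ w, φ w ∈ W → w ∈ W := fun w hw => by
    have hs : φ '' W = W := Set.eq_of_subset_of_ncard_le (by rintro _ ⟨u, hu, rfl⟩; exact hφ u hu)
      (by rw [Set.ncard_image_of_injective _ φ.injective])
    rw [← hs] at hw
    obtain ⟨u, hu, e⟩ := hw
    exact φ.injective e ▸ hu
  refine Subgroup.mem_set_normalizer_iff.2 fun n => ?_
  obtain ⟨m, rfl⟩ := φ.surjective n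
  rw [show φ h * φ m * (φ h)⁻¹ = φ (h * m * h⁻¹) by simp]
  exact ⟨fun hn => hφ _ ((Subgroup.mem_set_normalizer_iff.1 hh m).1 (hback m hn)),
    fun hn => hφ _ ((Subgroup.mem_set_normalizer_iff.1 hh m).2 (hback _ hn))⟩

/-- An element mapping a finite set into itself normalises it. -/
theorem mem_normalizer_of_mapsTo {Y : Type*} [Group Y] [Finite Y] {W : Set Y} {g : Y}
    (hg : ∀ w ∈ W, g * w * g⁻¹ ∈ W) : g ∈ Subgroup.normalizer W := by
  have hs : MulAut.conj g '' W = W := Set.eq_of_subset_of_ncard_le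
    (by rintro _ ⟨u, hu, rfl⟩; exact hg u hu)
    (by rw [Set.ncard_image_of_injective _ (MulAut.conj g).injective])
  refine Subgroup.mem_set_normalizer_iff.2 fun n => ⟨fun hn => hg n hn, fun hn => ?_⟩
  rw [← hs] at hn
  obtain ⟨u, hu, e⟩ := hn
  exact (MulAut.conj g).injective e ▸ hu

namespace AutFixU33

open Cfsg CfsgLib.SmallGroups.U33Degrees CfsgLib.Techniques.UThreeLTwo

theorem center_comm_r : ∀ X ∈ sList, (∀ Y ∈ sList, X * Y = Y * X) → X * rmat = rmat * X := by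
  decide +kernel

theorem count_iff : ∀ X ∈ sList,
    (16 ≤ sList.countP fun Y => decide (X * Y = Y * X)) ↔ X ∈ dList := by
  decide +kernel

theorem z_move : dmat 1 (ip 2) (ip 2) * tmat ≠ tmat * dmat 1 (ip 2) (ip 2) := by decide +kernel

theorem r_move : ¬ ∀ X ∈ dList, rmat * X * rmat' ∈ dList := by decide +kernel

open scoped Classical in
/-- The model. -/
theorem exists_invariant {F : Type} [Field F] [Fintype F] (hF : Fintype.card F = 9) :
    ∃ (T : Sylow 2 ↥(Cfsg.SU 3 F 3)) (H₁ H₂ : Subgroup ↥(Cfsg.SU 3 F 3)),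
      (T : Subgroup ↥(Cfsg.SU 3 F 3)) ≠ ⊥ ∧
      (T : Subgroup ↥(Cfsg.SU 3 F 3)) ≤ H₁ ∧ H₁ ≠ ⊤ ∧ (T : Subgroup ↥(Cfsg.SU 3 F 3)) ≤ H₂ ∧ H₂ ≠ ⊤ ∧
      (∀ φ : ↥(Cfsg.SU 3 F 3) ≃* ↥(Cfsg.SU 3 F 3),
        (∀ u ∈ (T : Subgroup ↥(Cfsg.SU 3 F 3)), φ u ∈ (T : Subgroup ↥(Cfsg.SU 3 F 3))) →
          (∀ h ∈ H₁, φ h ∈ H₁) ∧ (∀ h ∈ H₂, φ h ∈ H₂)) ∧
      H₁ ⊔ H₂ = ⊤ := by
  haveI : Fact (Nat.Prime 2) := ⟨Nat.prime_two⟩
  obtain ⟨-, E₀, -, -, hE₀inj, hE₀1, hE₀mul, hE₀range⟩ := exists_coord (F := F) hF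
  set E : ↥(Cfsg.SU 3 F 3) → M9 := fun g => M9.ofMat (E₀ g) with hEdef
  have hEinj : Function.Injective E := fun x y h => hE₀inj (M9.ofMat_injective h)
  have hE1 : E 1 = 1 := by simp only [hEdef, hE₀1, M9.ofMat_one]
  have hEmul : ∀ g h, E (g * h) = E g * E h := fun g h => by
    simp only [hEdef, hE₀mul, M9.ofMat_mul]
  have hmk : ∀ X ∈ [tmat, tmat', rmat, rmat'] ++ sList, ∃ g, E g = X := fun X hX => by
    obtain ⟨g, hg⟩ := (hE₀range X.toMat).2 (M9.toMat_mem_unit (mats_unit X hX))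
    exact ⟨g, by simp only [hEdef, hg, M9.ofMat_toMat]⟩
  set S := listSubgroup E hE1 hEmul sList one_sList mul_sList with hSdef
  have hSmem : ∀ g, g ∈ S ↔ E g ∈ sList := fun g => Iff.rfl
  have hcount : ∀ P : M9 → Bool,
      Nat.card {g : ↥(Cfsg.SU 3 F 3) // g ∈ S ∧ P (E g) = true} = sList.countP P := by
    intro P
    rw [List.countP_eq_length_filter, ← List.toFinset_card_of_nodup (sList_nodup.1.filter P),
      ← Fintype.card_coe, ← Nat.card_eq_fintype_card]
    refine Nat.card_eq_of_bijective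
      (fun g => ⟨E g.1, List.mem_toFinset.2 (List.mem_filter.2 g.2)⟩)
      ⟨fun a b e => Subtype.ext (hEinj (congrArg Subtype.val e)), fun X => ?_⟩
    obtain ⟨hX1, hX2⟩ := List.mem_filter.1 (List.mem_toFinset.1 X.2)
    obtain ⟨g, hg⟩ := hmk X (by simp [hX1])
    exact ⟨⟨g, by rw [hSmem, hg]; exact ⟨hX1, hX2⟩⟩, Subtype.ext hg⟩
  have hcard : Nat.card S = 32 := by
    have h := hcount fun _ => true
    rw [List.countP_eq_length.2 (fun a _ => rfl), sList_nodup.2] at h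
    rw [← h]
    exact Nat.card_congr (Equiv.subtypeEquivRight fun g => ⟨fun hg => ⟨hg, rfl⟩, And.left⟩)
  have hZ : Subgroup.center (Cfsg.SU 3 F 3) = ⊥ :=
    Subgroup.card_eq_one.1 (by
      rw [CfsgLib.Classical.card_center_su (by rw [hF]; norm_num) (by norm_num)]; norm_num)
  have e : ↥(Cfsg.SU 3 F 3) ≃* Cfsg.PSU 3 F 3 :=
    ((QuotientGroup.quotientMulEquivOfEq hZ).trans QuotientGroup.quotientBot).symm
  have hcardG : Nat.card ↥(Cfsg.SU 3 F 3) = 6048 := by
    rw [Nat.card_congr e.toEquiv]; exact card_PSU hF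
  have hS2 : IsPGroup 2 S := IsPGroup.of_card (n := 5) (by rw [hcard]; norm_num)
  let T : Sylow 2 ↥(Cfsg.SU 3 F 3) := hS2.toSylow (by
    have h := S.card_mul_index
    rw [hcard, hcardG] at h
    omega)
  obtain ⟨t, ht⟩ := hmk tmat (by simp)
  obtain ⟨r, hr⟩ := hmk rmat (by simp)
  have hinv : ∀ (x : ↥(Cfsg.SU 3 F 3)) (X X' : M9), E x = X → X * X' = 1 → E x⁻¹ = X' := by
    intro x X X' hx hX
    have h : E x⁻¹ * X = 1 := by rw [← hx, ← hEmul, inv_mul_cancel, hE1]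
    calc E x⁻¹ = E x⁻¹ * (X * X') := by rw [hX, M9.mul_one']
      _ = X' := by rw [← M9.mul_assoc', h, M9.one_mul']
  have ht' := hinv t _ _ ht t_inv.1
  have hr' := hinv r _ _ hr r_inv.1
  -- the two invariant overgroups
  set W : Set ↥(Cfsg.SU 3 F 3) := {x | E x ∈ dList} with hW
  set A := Subgroup.centralizer {z | z ∈ S ∧ ∀ s ∈ S, z * s = s * z} with hA
  set B := Subgroup.normalizer W with hB
  have hWφ : ∀ φ : ↥(Cfsg.SU 3 F 3) ≃* ↥(Cfsg.SU 3 F 3), (∀ u ∈ S, φ u ∈ S) →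
      ∀ w ∈ W, φ w ∈ W := by
    intro φ hφ w hw
    have hwS : E w ∈ sList := dList_sub _ hw
    have hφw : E (φ w) ∈ sList := hφ w hwS
    refine (count_iff _ hφw).1 (((count_iff _ hwS).2 hw).trans ?_)
    rw [← hcount, ← hcount]
    refine Nat.card_le_card_of_injective (fun g => ⟨φ g.1, hφ _ g.2.1, ?_⟩)
      fun a b h => Subtype.ext (φ.injective (congrArg Subtype.val h))
    have h1 : w * g.1 = g.1 * w := hEinj (by rw [hEmul, hEmul]; exact of_decide_eq_true g.2.2)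
    refine decide_eq_true ?_
    rw [← hEmul, ← hEmul, ← map_mul, h1, map_mul]
  have hSA : S ≤ A := fun s hs => Subgroup.mem_centralizer_iff.2 fun z hz => hz.2 s hs
  have hSB : S ≤ B := fun s hs => mem_normalizer_of_mapsTo
    (hWφ (MulAut.conj s) fun u hu => mul_mem (mul_mem hs hu) (inv_mem hs))
  have hrA : r ∈ A := Subgroup.mem_centralizer_iff.2 fun z hz => hEinj (by
    rw [hEmul, hEmul, hr]
    refine center_comm_r _ hz.1 fun Y hY => ?_
    obtain ⟨y, hy⟩ := hmk Y (by simp [hY])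
    rw [← hy, ← hEmul, hz.2 y (show E y ∈ sList by rw [hy]; exact hY), hEmul])
  have htB : t ∈ B := mem_normalizer_of_mapsTo fun w hw => by
    show E (t * w * t⁻¹) ∈ dList
    rw [hEmul, hEmul, ht, ht']
    exact t_norm _ hw
  have hAtop : A ≠ ⊤ := fun h => by
    obtain ⟨z, hz⟩ := hmk (dmat 1 (ip 2) (ip 2)) (by simp [w_relation.2.1])
    have h1 := Subgroup.mem_centralizer_iff.1 (show t ∈ A by rw [h]; trivial) z
      ⟨show E z ∈ sList by rw [hz]; exact w_relation.2.1, fun s hs => hEinj (by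
        rw [hEmul, hEmul, hz]; exact w_relation.2.2.2.2 _ hs)⟩
    exact z_move (by rw [← hz, ← ht, ← hEmul, h1, hEmul])
  have hBtop : B ≠ ⊤ := fun h => r_move fun X hX => by
    obtain ⟨x, hx⟩ := hmk X (by simp [dList_sub X hX])
    have h1 := (Subgroup.mem_set_normalizer_iff.1 (show r ∈ B by rw [h]; trivial) x).1
      (show E x ∈ dList by rw [hx]; exact hX)
    have h2 : E (r * x * r⁻¹) ∈ dList := h1
    rwa [hEmul, hEmul, hr, hx, hr'] at h2
  refine ⟨T, A, B, fun h => ?_, hSA, hAtop, hSB, hBtop, fun φ hφ =>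
    ⟨fun h hh => centralizer_center_invariant hφ hh,
      fun h hh => mapsTo_normalizer_invariant (hWφ φ hφ) hh⟩, ?_⟩
  · have : Nat.card (T : Subgroup ↥(Cfsg.SU 3 F 3)) = 32 := hcard
    rw [h] at this
    simp at this
  -- generation
  set H := A ⊔ B with hH
  have hSH : S ≤ H := hSA.trans le_sup_left
  have hrH : r ∈ H := Subgroup.mem_sup_left hrA
  have htH : t ∈ H := Subgroup.mem_sup_right htB
  refine eq_top_uThree hF e H ?_ ?_
  · rw [eq_bot_iff]
    intro k hk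
    obtain ⟨QH, hQH⟩ := ((hS2.comap_of_injective H.subtype H.subtype_injective) :
      IsPGroup 2 ↥(S.comap H.subtype)).exists_le_sylow
    have hQHeq : (QH : Subgroup ↥H) = S.comap H.subtype := by
      refine (Subgroup.eq_of_le_of_card_ge hQH ?_).symm
      rw [show Nat.card ↥(S.comap H.subtype) = 32 from
        (Nat.card_congr (Subgroup.subgroupOfEquivOfLe hSH).toEquiv).trans hcard,
        QH.card_eq_multiplicity]
      have hdvd : Nat.card ↥H ∣ 6048 := hcardG ▸ Subgroup.card_subgroup_dvd_card H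
      have h5 := (Nat.factorization_le_iff_dvd Nat.card_pos.ne' (by norm_num)).2 hdvd 2
      rw [show (6048 : ℕ) = 2 ^ 5 * 189 by norm_num, Nat.factorization_mul (by norm_num)
        (by norm_num), Finsupp.add_apply, Nat.prime_two.factorization_pow,
        Nat.factorization_eq_zero_of_not_dvd (by norm_num : ¬ 2 ∣ 189)] at h5
      exact le_trans (Nat.pow_le_pow_right (by norm_num) (by simpa using h5)) le_rfl
    have hK : ∀ x ∈ Cfsg.pCore 2 ↥H, E x.1 ∈ sList := fun x hx => by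
      have h := CfsgLib.Cores.pCore_le_sylow QH hx
      rw [hQHeq] at h
      exact h
    haveI hKn : (Cfsg.pCore 2 ↥H).Normal :=
      haveI := CfsgLib.Cores.pCore_characteristic (G := ↥H) 2; inferInstance
    have hcj : ∀ (y : ↥(Cfsg.SU 3 F 3)), y ∈ H → ∀ x ∈ Cfsg.pCore 2 ↥H,
        ∃ x' ∈ Cfsg.pCore 2 ↥H, x'.1 = y * x.1 * y⁻¹ :=
      fun y hy x hx => ⟨_, hKn.conj_mem x hx ⟨y, hy⟩, rfl⟩
    have step1 : ∀ x ∈ Cfsg.pCore 2 ↥H, E x.1 ∈ dList := fun x hx => by
      obtain ⟨y, hy, ey⟩ := hcj t htH x hx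
      refine core_step1 _ (hK x hx) ?_
      have := hK y hy
      rwa [ey, hEmul, hEmul, ht, ht'] at this
    have step2 : ∀ x ∈ Cfsg.pCore 2 ↥H, E x.1 ∈ scalList := fun x hx => by
      obtain ⟨y, hy, ey⟩ := hcj r hrH x hx
      refine core_step2 _ (step1 x hx) ?_
      have := step1 y hy
      rwa [ey, hEmul, hEmul, hr, hr'] at this
    obtain ⟨y, hy, ey⟩ := hcj t htH k hk
    rw [Subgroup.mem_bot]
    refine Subtype.ext (hEinj ?_)
    rw [Subgroup.coe_one, hE1]
    refine core_step3 _ (step2 k hk) ?_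
    have := step2 y hy
    rwa [ey, hEmul, hEmul, ht, ht'] at this
  · intro h2
    have h1 := Subgroup.card_dvd_of_le hSH
    rw [hcard] at h1
    have h3 := H.card_mul_index
    rw [hcardG] at h3
    obtain ⟨m, hm⟩ := h1
    obtain ⟨l, hl⟩ := h2
    rw [hm, hl, show 32 * m * (2 * l) = 64 * (m * l) by ring] at h3
    omega

end AutFixU33

/-- A socle `U₃(3)` is impossible in characteristic 2. -/
theorem not_pminimal_uThree {X : Type*} [Group X] [Finite X] {K : Subgroup X} [K.Normal]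
    [IsSimpleGroup K] [Fact (Nat.Prime 2)] (hX : Cfsg.IsPMinimal 2 X) {F : Type} [Field F]
    [Fintype F] (hF : Fintype.card F = 9) (e : K ≃* Cfsg.PSU 3 F 3) : False := by
  have hZ : Subgroup.center (Cfsg.SU 3 F 3) = ⊥ :=
    Subgroup.card_eq_one.1 (by
      rw [CfsgLib.Classical.card_center_su (by rw [hF]; norm_num) (by norm_num)]; norm_num)
  obtain ⟨T, H₁, H₂, h0, h1, h1', h2, h2', hinv, hgen⟩ := AutFixU33.exists_invariant hF
  exact not_pminimal_of_model hX
    (e.trans ((QuotientGroup.quotientMulEquivOfEq hZ).trans QuotientGroup.quotientBot))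
    T h0 H₁ H₂ h1 h1' h2 h2' hinv hgen

end CfsgLib.SplitBN
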