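import Cfsg.Agent.Lib.SplitBN.Overgroup
import Cfsg.Agent.Lib.SplitBN.AutFix
import Cfsg.Agent.Lib.Chev.FixedChambers

/-!
# The action of an automorphism fixing `B` on the minimal parabolic subgroups
-/

set_option autoImplicit false
set_option linter.unusedSectionVars false

namespace CfsgLib.SplitBN

open CfsgLib.Chev.BN CfsgLib.BNSteinberg

universe u v

variable {G : Type u} [Group G] {P : Cfsg.BNPair G}

/-- The automorphism carries the minimal parabolic subgroup of `a` to that of `b`. -/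
def Sends (P : Cfsg.BNPair G) (φ : G ≃* G) (a b : G) : Prop :=
  (P.parabolic {a}).map φ.toMonoidHom = P.parabolic {b}

/-- The minimal parabolic subgroups of `b` and `a` can be interchanged in a product. -/
def Sw (P : Cfsg.BNPair G) (a b : G) : Prop :=
  ∀ x ∈ P.parabolic {b}, ∀ y ∈ P.parabolic {a},
    ∃ x' ∈ P.parabolic {a}, ∃ y' ∈ P.parabolic {b}, x * y = x' * y'

/-- The diagram has a letter with at most one neighbour and one with at least two. -/
def Branch (P : Cfsg.BNPair G) : Prop :=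
  ∃ e ∈ P.S, ∃ m ∈ P.S, ∃ a ∈ P.S, ∃ b ∈ P.S, a ≠ b ∧ ¬ Eqv P (m * a) (a * m) ∧
    ¬ Eqv P (m * b) (b * m) ∧ ∀ x ∈ P.S, ∀ y ∈ P.S, ¬ Eqv P (e * x) (x * e) →
      ¬ Eqv P (e * y) (y * e) → x = y

/-- Exactly two letters. -/
def Two (P : Cfsg.BNPair G) (a b : G) : Prop :=
  a ∈ P.S ∧ b ∈ P.S ∧ a ≠ b ∧ ∀ s ∈ P.S, s = a ∨ s = b

theorem Two.symm {a b : G} (h : Two P a b) : Two P b a :=
  ⟨h.2.1, h.1, Ne.symm h.2.2.1, fun s hs => (h.2.2.2 s hs).symm⟩

theorem parabolic_inj {a b : G} (ha : a ∈ P.S) (hb : b ∈ P.S)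
    (h : P.parabolic {a} = P.parabolic {b}) : a = b := by
  have hm : a ∈ P.parabolic {b} := h ▸ J_subset_parabolic (Set.mem_singleton a)
  exact (mem_parabolic_S (by simpa using hb) ha).1 hm

theorem parabolic_ne_B {a : G} (ha : a ∈ P.S) : P.parabolic {a} ≠ P.B := fun h =>
  s_not_mem_B ha (h ▸ J_subset_parabolic (Set.mem_singleton a))

theorem exists_mem_S {M : Subgroup G} (hB : P.B ≤ M) (hne : M ≠ P.B) :
    ∃ s ∈ P.S, P.parabolic {s} ≤ M := by
  by_contra hno
  push Not at hno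
  refine hne (le_antisymm ?_ hB)
  rw [eq_parabolic hB]
  refine sup_le le_rfl ((Subgroup.closure_le _).2 fun s ⟨hs, hsM⟩ => ?_)
  exact absurd (sup_le hB ((Subgroup.closure_le _).2 (Set.singleton_subset_iff.2 hsM))) (hno s hs)

theorem Sends.trans {φ ψ : G ≃* G} {a b c : G} (h : Sends P φ a b) (h' : Sends P ψ b c) :
    Sends P (φ.trans ψ) a c := by
  unfold Sends at *
  rw [← h', ← h, Subgroup.map_map]
  rfl

theorem Sends.symm {φ : G ≃* G} {a b : G} (h : Sends P φ a b) : Sends P φ.symm b a := by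
  unfold Sends at *
  rw [← h, Subgroup.map_map]
  convert Subgroup.map_id _
  ext x
  exact φ.symm_apply_apply x

theorem Sends.unique {φ : G ≃* G} {a b c : G} (hb : b ∈ P.S) (hc : c ∈ P.S) (h : Sends P φ a b)
    (h' : Sends P φ a c) : b = c := parabolic_inj hb hc (Eq.trans (Eq.symm h) h')

theorem Sends.inj {φ : G ≃* G} {a b c : G} (ha : a ∈ P.S) (hb : b ∈ P.S) (h : Sends P φ a c)
    (h' : Sends P φ b c) : a = b :=
  parabolic_inj ha hb (Subgroup.map_injective (f := φ.toMonoidHom) φ.injective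
    (Eq.trans h (Eq.symm h')))

/-- An automorphism fixing `B` permutes the minimal parabolic subgroups. -/
theorem exists_sends {φ : G ≃* G} (hB : P.B.map φ.toMonoidHom = P.B) {a : G} (ha : a ∈ P.S) :
    ∃ b ∈ P.S, Sends P φ a b := by
  have hne : (P.parabolic {a}).map φ.toMonoidHom ≠ P.B := fun e => parabolic_ne_B ha
    (Subgroup.map_injective (f := φ.toMonoidHom) φ.injective (e.trans hB.symm))
  obtain ⟨b, hb, hle⟩ := exists_mem_S (hB ▸ Subgroup.map_mono (B_le_parabolic _)) hne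
  refine ⟨b, hb, le_antisymm ?_ hle⟩
  have hcB : P.B ≤ (P.parabolic {b}).comap φ.toMonoidHom := by
    rw [← Subgroup.map_le_iff_le_comap, hB]
    exact B_le_parabolic _
  have hcne : (P.parabolic {b}).comap φ.toMonoidHom ≠ P.B := fun e => parabolic_ne_B hb (by
    have := congrArg (Subgroup.map φ.toMonoidHom) e
    rwa [Subgroup.map_comap_eq_self_of_surjective φ.surjective, hB] at this)
  obtain ⟨c, hc, hcle⟩ := exists_mem_S hcB hcne
  have h2 : (P.parabolic {b}).comap φ.toMonoidHom ≤ P.parabolic {a} := by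
    have := Subgroup.comap_mono (f := φ.toMonoidHom) hle
    rwa [Subgroup.comap_map_eq_self_of_injective φ.injective] at this
  obtain rfl : c = a :=
    (mem_parabolic_S (by simpa using ha) hc).1 (h2 (hcle (J_subset_parabolic (Set.mem_singleton c))))
  exact Subgroup.map_le_iff_le_comap.2 hcle

theorem Sw.map {φ : G ≃* G} {a b a' b' : G} (ha : Sends P φ a a') (hb : Sends P φ b b')
    (h : Sw P a b) : Sw P a' b' := by
  intro x hx y hy
  rw [← hb] at hx
  rw [← ha] at hy
  obtain ⟨x, hx, rfl⟩ := hx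
  obtain ⟨y, hy, rfl⟩ := hy
  obtain ⟨x', hx', y', hy', e⟩ := h x hx y hy
  refine ⟨φ x', ha ▸ ⟨x', hx', rfl⟩, φ y', hb ▸ ⟨y', hy', rfl⟩, ?_⟩
  simp only [MulEquiv.coe_toMonoidHom, ← map_mul, e]

theorem sw_iff [Finite G] {a b : G} (ha : a ∈ P.S) (hb : b ∈ P.S) : Sw P a b ↔ Eqv P (a * b) (b * a) := by
  by_cases hab : a = b
  · subst hab
    exact ⟨fun _ => Eqv.refl _, fun _ x hx y hy => ⟨x, hx, y, hy, rfl⟩⟩
  have hba : len P (b * a) = 2 := len_two hb ha (Ne.symm hab)
  constructor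
  · intro h
    obtain ⟨x, hx, y, hy, e⟩ := h b (J_subset_parabolic (Set.mem_singleton b)) a
      (J_subset_parabolic (Set.mem_singleton a))
    have hN : b * a ∈ P.N := mul_mem (s_mem_N hb) (s_mem_N ha)
    have no : ∀ n ∈ P.N, len P n ≠ 2 → b * a ∉ cell P n := fun n hn hne hc =>
      hne ((len_congr (eqv_of_mem_cells hN hn (mem_cell_self _) hc)).symm.trans hba)
    by_cases hxB : x ∈ P.B <;> by_cases hyB : y ∈ P.B
    · refine absurd ?_ (no 1 (one_mem _) (by rw [(len_eq_zero_iff (one_mem _)).2 (one_mem _)]; omega))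
      rw [e]
      exact mul_mem_cell hxB (by simpa using mul_mem_cell hyB (mem_cell_self (P := P) 1))
    · refine absurd ?_ (no b (s_mem_N hb) (by rw [len_s hb]; omega))
      rw [e]
      exact mul_mem_cell hxB (parabolic_single hb hy hyB)
    · refine absurd ?_ (no a (s_mem_N ha) (by rw [len_s ha]; omega))
      rw [e]
      exact mem_cell_mul hyB (parabolic_single ha hx hxB)
    · have hc := cell_mul_up ha (s_mem_N hb) (by rw [len_s hb, len_two ha hb hab]; omega)
        (parabolic_single ha hx hxB) (parabolic_single hb hy hyB)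
      exact eqv_of_mem_cells (mul_mem (s_mem_N ha) (s_mem_N hb)) hN hc (e ▸ mem_cell_self _)
  · intro h x hx y hy
    by_cases hxB : x ∈ P.B
    · exact ⟨x * y, mul_mem (B_le_parabolic _ hxB) hy, 1, one_mem _, (mul_one _).symm⟩
    by_cases hyB : y ∈ P.B
    · exact ⟨1, one_mem _, x * y, mul_mem hx (B_le_parabolic _ hyB), (one_mul _).symm⟩
    have hc := cell_mul_up hb (s_mem_N ha) (by rw [len_s ha, hba]; omega)
      (parabolic_single hb hx hxB) (parabolic_single ha hy hyB)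
    rw [← h.cell_eq] at hc
    obtain ⟨c, hc', d, hd, e⟩ := mem_cell.1 hc
    exact ⟨c * a, mul_mem (B_le_parabolic _ hc') (J_subset_parabolic (Set.mem_singleton a)), b * d,
      mul_mem (J_subset_parabolic (Set.mem_singleton b)) (B_le_parabolic _ hd), by rw [e]; group⟩

/-- A branched diagram is not homogeneous. -/
theorem Branch.not_transitive [Finite G] (h : Branch P)
    (htr : ∀ a ∈ P.S, ∀ b ∈ P.S, ∃ φ : G ≃* G, P.B.map φ.toMonoidHom = P.B ∧ Sends P φ a b) :
    False := by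
  obtain ⟨e, he, m, hm, a, ha, b, hb, hab, hma, hmb, huniq⟩ := h
  obtain ⟨φ, hB, hφ⟩ := htr m hm e he
  obtain ⟨a', ha', hsa⟩ := exists_sends hB ha
  obtain ⟨b', hb', hsb⟩ := exists_sends hB hb
  have keep : ∀ x ∈ P.S, ∀ x' ∈ P.S, Sends P φ x x' → ¬ Eqv P (m * x) (x * m) →
      ¬ Eqv P (e * x') (x' * e) := fun x hx x' hx' hs hne he' =>
    hne ((sw_iff hm hx).1 (((sw_iff he hx').2 he').map hφ.symm hs.symm))
  obtain rfl := huniq a' ha' b' hb' (keep a ha a' ha' hsa hma) (keep b hb b' hb' hsb hmb)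
  exact hab (Sends.inj ha hb hsa hsb)

section Split

variable [Finite G] {p : ℕ} {U : Subgroup G} (hs : BNSteinberg.Split P p U)
include hs

theorem map_B_of_fix {φ : G ≃* G} (hφ : ∀ u ∈ U, φ u ∈ U) : P.B.map φ.toMonoidHom = P.B := by
  have hU : U.map φ.toMonoidHom = U := Subgroup.eq_of_le_of_card_ge
    (by rintro _ ⟨u, hu, rfl⟩; exact hφ u hu) (by rw [Subgroup.card_map_of_injective φ.injective])
  refine Subgroup.eq_of_le_of_card_ge ?_ (by rw [Subgroup.card_map_of_injective φ.injective])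
  rintro _ ⟨b, hb, rfl⟩
  refine mem_B_of_normalizes hs fun u hu => ?_
  rw [← hU] at hu
  obtain ⟨v, hv, rfl⟩ := hu
  simp only [MulEquiv.coe_toMonoidHom, ← map_inv, ← map_mul]
  exact hφ _ (by simpa using hs.normal b⁻¹ (inv_mem hb) v hv)

end Split

/-! ### Shapes of split Tits systems -/

/-- A split Tits system with a branched diagram. -/
def HasBranch (p : ℕ) (G : Type u) [Group G] : Prop :=
  ∃ (P : Cfsg.BNPair G) (U : Subgroup G), BNSteinberg.Split P p U ∧ Branch P

/-- A split Tits system with two letters. -/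
def HasTwo (p : ℕ) (G : Type u) [Group G] : Prop :=
  ∃ (P : Cfsg.BNPair G) (U : Subgroup G) (a b : G), BNSteinberg.Split P p U ∧ Two P a b

/-- The part of `U` that `s` carries into `B`. -/
def uPart (P : Cfsg.BNPair G) (U : Subgroup G) (s : G) : Subgroup G :=
  U ⊓ P.B.comap (MulAut.conj s⁻¹).toMonoidHom

theorem mem_uPart {U : Subgroup G} {s u : G} : u ∈ uPart P U s ↔ u ∈ U ∧ s⁻¹ * u * s ∈ P.B := by
  simp [uPart, Subgroup.mem_inf]

/-- An automorphism fixing `U` keeps the size of these parts. -/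
theorem card_uPart_le [Finite G] {p : ℕ} {U : Subgroup G} (hs : BNSteinberg.Split P p U)
    {φ : G ≃* G} (hφ : ∀ u ∈ U, φ u ∈ U) {a b : G} (ha : a ∈ P.S) (hb : b ∈ P.S)
    (h : Sends P φ a b) : Nat.card (uPart P U a) ≤ Nat.card (uPart P U b) := by
  have hB := map_B_of_fix hs hφ
  have hmem : φ a ∈ P.parabolic {b} := by
    rw [← h]
    exact ⟨a, J_subset_parabolic (Set.mem_singleton a), rfl⟩
  have hnB : φ a ∉ P.B := fun hh => by
    rw [← hB] at hh
    obtain ⟨y, hy, e⟩ := hh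
    exact s_not_mem_B ha (φ.injective e ▸ hy)
  obtain ⟨c, hc, d, hd, e⟩ := mem_cell.1 (parabolic_single hb hmem hnB)
  refine Nat.card_le_card_of_injective (fun u : uPart P U a => (⟨c⁻¹ * φ u * c, ?_⟩ : uPart P U b))
    fun u v huv => ?_
  · obtain ⟨hu, hua⟩ := mem_uPart.1 u.2
    refine mem_uPart.2 ⟨by simpa using hs.normal c⁻¹ (inv_mem hc) _ (hφ _ hu), ?_⟩
    have h1 : φ (a⁻¹ * u * a) ∈ P.B := hB ▸ ⟨_, hua, rfl⟩
    rw [map_mul, map_mul, map_inv, e] at h1
    have h2 := mul_mem (mul_mem hd h1) (inv_mem hd)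
    rwa [show d * ((c * b * d)⁻¹ * φ u * (c * b * d)) * d⁻¹ = b⁻¹ * (c⁻¹ * φ u * c) * b by group]
      at h2
  · simpa using huv

/-- Two letters whose parts of `U` have different sizes. -/
def HasTwoCard (p : ℕ) (G : Type u) [Group G] : Prop :=
  ∃ (P : Cfsg.BNPair G) (U : Subgroup G) (a b : G), BNSteinberg.Split P p U ∧ Two P a b ∧
    Nat.card (uPart P U b) < Nat.card (uPart P U a)

/-- Two letters which no automorphism fixing `U` interchanges. -/
def HasTwoRigid (p : ℕ) (G : Type u) [Group G] : Prop :=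
  ∃ (P : Cfsg.BNPair G) (U : Subgroup G) (a b : G), BNSteinberg.Split P p U ∧ Two P a b ∧
    ∀ φ : G ≃* G, (∀ u ∈ U, φ u ∈ U) → ¬ Sends P φ a b

theorem HasTwoCard.rigid {p : ℕ} [Finite G] (h : HasTwoCard p G) : HasTwoRigid p G := by
  obtain ⟨P, U, a, b, hs, htwo, hne⟩ := h
  exact ⟨P, U, a, b, hs, htwo, fun φ hU hφ =>
    absurd (card_uPart_le hs hU htwo.1 htwo.2.1 hφ) (not_le.2 hne)⟩

theorem HasTwoRigid.two {p : ℕ} (h : HasTwoRigid p G) : HasTwo p G :=
  let ⟨P, U, a, b, hs, htwo, _⟩ := h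
  ⟨P, U, a, b, hs, htwo⟩

theorem HasTwoCard.two {p : ℕ} [Finite G] (h : HasTwoCard p G) : HasTwo p G := h.rigid.two

section Map

variable [Finite G] {p : ℕ} [Fact p.Prime] {U : Subgroup G} {H : Type v} [Group H] [Finite H]
  (f : G →* H) (hf : Function.Surjective f) (hker : f.ker ≤ Subgroup.center G)
  (hs : BNSteinberg.Split P p U)
include hf hker hs

theorem map_eqv {x y : G} : Eqv (mapPair f hf hker hs) (f x) (f y) ↔ Eqv P x y := by
  show (f x)⁻¹ * f y ∈ P.B.map f ⊓ P.N.map f ↔ x⁻¹ * y ∈ P.B ⊓ P.N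
  rw [← map_inv, ← map_mul]
  exact map_mem_torus f hker hs

theorem map_inj_S {a b : G} (ha : a ∈ P.S) (hb : b ∈ P.S) (e : f a = f b) : a = b :=
  P.inj a ha b hb ((map_eqv f hf hker hs).1 (e ▸ Eqv.refl (f a))).1

theorem map_parabolic (J : Set G) :
    (mapPair f hf hker hs).parabolic (f '' J) = (P.parabolic J).map f := by
  show P.B.map f ⊔ Subgroup.closure (f '' J) = (P.B ⊔ Subgroup.closure J).map f
  rw [Subgroup.map_sup, MonoidHom.map_closure]

theorem map_two {a b : G} (h : Two P a b) : Two (mapPair f hf hker hs) (f a) (f b) := by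
  refine ⟨⟨a, h.1, rfl⟩, ⟨b, h.2.1, rfl⟩, fun e => h.2.2.1 (map_inj_S f hf hker hs h.1 h.2.1 e), ?_⟩
  rintro _ ⟨s, hs', rfl⟩
  exact (h.2.2.2 s hs').imp (congrArg f) (congrArg f)

end Map

section Transfer

variable [Finite G] {p : ℕ} [Fact p.Prime] {H : Type v} [Group H] [Finite H]

theorem HasBranch.map (h : HasBranch p G) (f : G →* H) (hf : Function.Surjective f)
    (hker : f.ker ≤ Subgroup.center G) : HasBranch p H := by
  obtain ⟨P, U, hs, e, he, m, hm, a, ha, b, hb, hab, hma, hmb, huniq⟩ := h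
  have hE : ∀ x y : G, Eqv (mapPair f hf hker hs) (f x * f y) (f y * f x) ↔
      Eqv P (x * y) (y * x) := fun x y => by
    rw [← map_mul, ← map_mul]; exact map_eqv f hf hker hs
  refine ⟨mapPair f hf hker hs, U.map f, split_map f hf hker hs, f e, ⟨e, he, rfl⟩, f m,
    ⟨m, hm, rfl⟩, f a, ⟨a, ha, rfl⟩, f b, ⟨b, hb, rfl⟩,
    fun h' => hab (map_inj_S f hf hker hs ha hb h'), by rwa [hE], by rwa [hE], ?_⟩
  rintro _ ⟨x, hx, rfl⟩ _ ⟨y, hy, rfl⟩ h1 h2
  rw [hE] at h1 h2
  rw [huniq x hx y hy h1 h2]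

theorem HasTwo.map (h : HasTwo p G) (f : G →* H) (hf : Function.Surjective f)
    (hker : f.ker ≤ Subgroup.center G) : HasTwo p H := by
  obtain ⟨P, U, a, b, hs, htwo⟩ := h
  exact ⟨_, _, f a, f b, split_map f hf hker hs, map_two f hf hker hs htwo⟩

theorem card_uPart_map {U : Subgroup G} (f : G →* H) (hf : Function.Surjective f)
    (hker : f.ker ≤ Subgroup.center G) (hs : BNSteinberg.Split P p U) (s : G) :
    Nat.card (uPart (mapPair f hf hker hs) (U.map f) (f s)) = Nat.card (uPart P U s) := by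
  symm
  refine Nat.card_eq_of_bijective (fun u : uPart P U s =>
    (⟨f u, mem_uPart.2 ⟨⟨_, (mem_uPart.1 u.2).1, rfl⟩, ⟨_, (mem_uPart.1 u.2).2, by simp⟩⟩⟩ :
      uPart (mapPair f hf hker hs) (U.map f) (f s))) ⟨fun u v huv => ?_, fun y => ?_⟩
  · have he : f ((u : G)⁻¹ * v) = 1 := by
      rw [map_mul, map_inv, show f (u : G) = f v from congrArg Subtype.val huv, inv_mul_cancel]
    have h1 := ker_le_torus f hker hs he
    obtain ⟨k, hk⟩ := hs.pgroup ⟨_, mul_mem (inv_mem (mem_uPart.1 u.2).1) (mem_uPart.1 v.2).1⟩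
    exact Subtype.ext (inv_mul_eq_one.1 (hs.torus _ h1 k (congrArg Subtype.val hk)))
  · obtain ⟨⟨u, hu, e⟩, hB⟩ := mem_uPart.1 y.2
    refine ⟨⟨u, mem_uPart.2 ⟨hu, (map_mem_B f hker hs).1 ?_⟩⟩, Subtype.ext e⟩
    rw [map_mul, map_mul, map_inv, e]
    exact hB

theorem HasTwoCard.map (h : HasTwoCard p G) (f : G →* H) (hf : Function.Surjective f)
    (hker : f.ker ≤ Subgroup.center G) : HasTwoCard p H := by
  obtain ⟨P, U, a, b, hs, htwo, hne⟩ := h
  exact ⟨_, _, f a, f b, split_map f hf hker hs, map_two f hf hker hs htwo,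
    by rw [card_uPart_map, card_uPart_map]; exact hne⟩

theorem mem_ker_bot (e : G ≃* H) : e.toMonoidHom.ker ≤ Subgroup.center G := by
  rw [MonoidHom.ker_eq_bot e.toMonoidHom e.injective]; exact bot_le

theorem HasBranch.congr (h : HasBranch p G) (e : G ≃* H) : HasBranch p H :=
  h.map e.toMonoidHom e.surjective (mem_ker_bot e)

theorem HasTwo.congr (h : HasTwo p G) (e : G ≃* H) : HasTwo p H :=
  h.map e.toMonoidHom e.surjective (mem_ker_bot e)

theorem HasTwoCard.congr (h : HasTwoCard p G) (e : G ≃* H) : HasTwoCard p H :=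
  h.map e.toMonoidHom e.surjective (mem_ker_bot e)

theorem HasTwoRigid.congr (h : HasTwoRigid p G) (e : G ≃* H) : HasTwoRigid p H := by
  obtain ⟨P, U, a, b, hs, htwo, hno⟩ := h
  have hker := mem_ker_bot e
  let f : G →* H := e.toMonoidHom
  have hf : Function.Surjective f := e.surjective
  refine ⟨_, _, f a, f b, split_map f hf hker hs, map_two f hf hker hs htwo,
    fun φ hφ hsend => hno ((e.trans φ).trans e.symm) (fun u hu => ?_) ?_⟩
  · obtain ⟨v, hv, hv'⟩ := hφ (e u) ⟨u, hu, rfl⟩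
    show e.symm (φ (e u)) ∈ U
    rw [← hv']
    simpa [f] using hv
  · unfold Sends at *
    rw [← Set.image_singleton (f := f), ← Set.image_singleton (f := f) (a := b),
      map_parabolic f hf hker hs, map_parabolic f hf hker hs] at hsend
    apply Subgroup.map_injective (f := f) e.injective
    rw [← hsend, Subgroup.map_map, Subgroup.map_map]
    congr 1
    ext x
    simp [f]

/-- A branched diagram passes to a normal subgroup of index prime to `p`. -/
theorem HasBranch.normal (h : HasBranch p G) (M : Subgroup G) [M.Normal] (hidx : ¬ p ∣ M.index) :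
    HasBranch p M := by
  obtain ⟨P, U, hs, e, he, m, hm, a, ha, b, hb, hab, hma, hmb, huniq⟩ := h
  have hUM : U ≤ M := by
    intro u hu
    obtain ⟨k, hk⟩ := hs.pgroup ⟨u, hu⟩
    have hk' : u ^ p ^ k = 1 := congrArg Subtype.val hk
    have h1 : ((u : G ⧸ M)) ^ p ^ k = 1 := by rw [← QuotientGroup.mk_pow, hk']; rfl
    have h2 : ((u : G ⧸ M)) ^ M.index = 1 := by
      rw [Subgroup.index]; exact pow_card_eq_one'
    have hcop : Nat.Coprime (p ^ k) M.index :=
      Nat.Coprime.pow_left _ ((Fact.out : p.Prime).coprime_iff_not_dvd.2 hidx)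
    have := pow_gcd_eq_one.2 ⟨h1, h2⟩
    rw [hcop, pow_one] at this
    exact (QuotientGroup.eq_one_iff u).1 this
  let r : ∀ s, s ∈ P.S → M := fun s hsS => genRep M hs hUM s hsS
  have hre : ∀ s (hsS : s ∈ P.S), Eqv P s (r s hsS : G) := fun s hsS => genRep_eqv M hs hUM hsS
  have hmul : ∀ s (hsS : s ∈ P.S) t (htS : t ∈ P.S),
      Eqv P (s * t) ((r s hsS : G) * (r t htS : G)) := fun s hsS t htS =>
    ((hre s hsS).mul_right (s_mem_N htS)).trans ((hre t htS).mul_left _)
  have hE : ∀ s (hsS : s ∈ P.S) t (htS : t ∈ P.S),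
      Eqv (normalPair M hs hUM) (r s hsS * r t htS) (r t htS * r s hsS) ↔
        Eqv P (s * t) (t * s) := fun s hsS t htS => by
    constructor
    · intro h'
      refine (hmul s hsS t htS).trans (Eqv.trans ?_ (hmul t htS s hsS).symm)
      exact ⟨h'.1, h'.2⟩
    · intro h'
      have := ((hmul s hsS t htS).symm.trans h').trans (hmul t htS s hsS)
      exact ⟨this.1, this.2⟩
  refine ⟨normalPair M hs hUM, U.subgroupOf M, split_normal M hs hUM, r e he, ⟨e, he, rfl⟩, r m hm,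
    ⟨m, hm, rfl⟩, r a ha, ⟨a, ha, rfl⟩, r b hb, ⟨b, hb, rfl⟩, fun h' => hab ?_, by rwa [hE],
    by rwa [hE], ?_⟩
  · refine P.inj a ha b hb ((hre a ha).trans (?_ : Eqv P (r a ha : G) b)).1
    rw [h']
    exact (hre b hb).symm
  · rintro _ ⟨x, hx, rfl⟩ _ ⟨y, hy, rfl⟩ h1 h2
    have h1' := fun h' => h1 ((hE e he x hx).2 h')
    have h2' := fun h' => h2 ((hE e he y hy).2 h')
    obtain rfl := huniq x hx y hy h1' h2'
    rfl

end Transfer

end CfsgLib.SplitBN
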