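import Cfsg.Agent.Lib.SplitBN.BranchClassical

/-!
# The split Tits systems of rank two of the unitary and symplectic groups
-/

set_option autoImplicit false
set_option linter.unusedSectionVars false
set_option linter.style.haveILetI false

namespace CfsgLib.SplitBN

open Matrix CfsgLib.Chev.BN CfsgLib.TwistBN CfsgLib.PronormalPSL CfsgLib.PronormalPSU
  CfsgLib.UnitarySpec CfsgLib.Fusion.UniTri

variable {F : Type*} [Field F] [Fintype F] {p : ℕ} [hp : Fact p.Prime] [CharP F p]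

theorem two_fixS {n : ℕ} {d : Fin n → Fˣ} {σ : F ≃+* F} (hC : TwistBN.Ctx d σ) (h4 : 4 ≤ n)
    (h5 : n ≤ 5) :
    Two (TwistBN.bnPair hC) (sRep hC 0 (by omega)) (sRep hC 1 (by omega)) := by
  refine ⟨⟨⟨0, by omega⟩, rfl⟩, ⟨⟨1, by omega⟩, rfl⟩, fun h => ?_, ?_⟩
  · have hm := sRep_mono hC (show 2 * 0 + 2 ≤ n by omega)
    rw [h] at hm
    exact absurd (tPerm_inj (by omega) (by omega)
      (mono_perm_unique hm (sRep_mono hC (show 2 * 1 + 2 ≤ n by omega)))) (by omega)
  · rintro _ ⟨⟨k, hk⟩, rfl⟩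
    rcases (by omega : k = 0 ∨ k = 1) with rfl | rfl
    · exact Or.inl rfl
    · exact Or.inr rfl

theorem hasTwo_psu {n q : ℕ} (hF : Fintype.card F = q ^ 2) (h4 : 4 ≤ n) (h5 : n ≤ 5) :
    HasTwo p (Cfsg.PSU n F q) := by
  obtain ⟨d, σ, hC, ⟨e⟩⟩ := TwistBN.su_equiv (n := n) hF
  exact (HasTwo.congr (p := p) ⟨_, _, _, _, TwistBN.split hC p, two_fixS hC h4 h5⟩ e.symm).map _
    (QuotientGroup.mk'_surjective _) (by rw [QuotientGroup.ker_mk'])

theorem hasTwo_psp : HasTwo p (Cfsg.PSp 2 F) := by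
  obtain ⟨d, hC, ⟨e⟩⟩ := TwistBN.sp_equiv (F := F) 2
  exact (HasTwo.congr (p := p) ⟨_, _, _, _, TwistBN.split hC p, two_fixS hC le_rfl (by omega)⟩
    e.symm).map _ (QuotientGroup.mk'_surjective _) (by rw [QuotientGroup.ker_mk'])

/-- The unitary groups with standard twist. -/
theorem su_equiv_one {n q : ℕ} (hF : Fintype.card F = q ^ 2) :
    ∃ (σ : F ≃+* F), σ ≠ RingEquiv.refl F ∧ (∀ a, σ (σ a) = a) ∧
      TwistBN.Ctx (1 : Fin n → Fˣ) σ ∧
      Nonempty (Cfsg.SU n F q ≃* fixS (1 : Fin n → Fˣ) σ) := by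
  obtain ⟨σ₀, hσ₀, hinv, hne₀⟩ := CfsgLib.Classical.exists_qPow hF
  let σ : F ≃+* F := RingEquiv.ofBijective σ₀ ⟨σ₀.injective, fun a => ⟨σ₀ a, hinv a⟩⟩
  have hσ : ∀ a, σ a = a ^ q := hσ₀
  have hne : σ ≠ RingEquiv.refl F := fun h => hne₀ (RingHom.ext fun a => RingEquiv.congr_fun h a)
  set d : Fin n → Fˣ := 1 with hd
  have hC : TwistBN.Ctx d σ := TwistBN.Ctx.of (fun i => by simp [hd])
    (fun a b _ _ => by simp [hd]) fun a _ => by
    obtain ⟨x, hx⟩ : ∃ x, σ x ≠ x := by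
      by_contra h
      push Not at h
      exact hne (RingEquiv.ext h)
    refine ⟨x - σ x, sub_ne_zero.2 (Ne.symm hx), ?_⟩
    rw [map_sub, show σ (σ x) = x from hinv x]
    simp [hd]
  obtain ⟨X, hX⟩ := exists_congr_one (σ := σ) hinv hne (H := antiJ F n)
    (by rw [antiJ_transpose, antiJ_map])
    (fun h => by
      have := congrArg Matrix.det (antiJ_sq (F := F) (n := n))
      rw [det_mul, h, zero_mul, det_one] at this
      exact zero_ne_one this)
  let ψ : Cfsg.SU n F q →* GL (Fin n) F := (MulAut.conj X).toMonoidHom.comp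
    (SpecialLinearGroup.toGL.comp (Cfsg.SU n F q).subtype)
  have hψinj : Function.Injective ψ := (MulAut.conj X).injective.comp
    (SpecialLinearGroup.toGL_injective.comp (Subgroup.subtype_injective _))
  have hψval : ∀ s, (ψ s).1 = X.1 * s.1.1 * (X⁻¹).1 := fun s => rfl
  have htr := isU_conj_iff (σ := σ) hX
  have hfix : ∀ g : GL (Fin n) F, g ∈ fixS d σ ↔ IsU σ (antiJ F n) g.1 ∧ g.1.det = 1 := fun g => by
    rw [mem_fixS, ← mem_fixG_iff hinv, mem_fixG]
    refine and_congr_left' ?_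
    have : th d σ g = tw σ g := Units.ext (Matrix.ext fun i j => by
      rw [th_apply, tw_apply]; simp [hd])
    rw [this]
  have hψmem : ∀ s, ψ s ∈ fixS d σ := fun s => (hfix _).2 ⟨by
    rw [hψval]; exact (htr _).1 ((mem_SU_iff hσ s.1).1 s.2), by
    rw [hψval, det_units_conj]; exact s.1.2⟩
  let f : Cfsg.SU n F q →* fixS d σ := ψ.codRestrict (fixS d σ) hψmem
  have hf : Function.Bijective f := by
    refine ⟨fun a b h => hψinj (congrArg Subtype.val h), fun g => ?_⟩
    obtain ⟨hU, hdet⟩ := (hfix _).1 g.2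
    have h1 : ((X⁻¹).1 * g.1.1 * X.1).det = 1 := by rw [det_units_conj']; exact hdet
    have e : X.1 * ((X⁻¹).1 * g.1.1 * X.1) * (X⁻¹).1 = g.1.1 := by
      rw [← Units.val_mul, ← Units.val_mul, ← Units.val_mul, ← Units.val_mul]
      congr 1
      group
    obtain ⟨s, hs⟩ := exists_su hσ _ h1 ((htr _).2 (e.symm ▸ hU))
    exact ⟨s, Subtype.ext (Units.ext (by show (ψ s).1 = _; rw [hψval, hs]; exact e))⟩
  exact ⟨σ, hne, hinv, hC, ⟨MulEquiv.ofBijective f hf⟩⟩

section Node

variable {n : ℕ} {d : Fin n → Fˣ} {σ : F ≃+* F}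

variable (d σ) in
/-- The block diagonal part on the unipotent subgroup. -/
noncomputable def nodeHom (k : ℕ) : ↥(unipU d σ) →* ↥(uni F n) where
  toFun u := prU k ⟨_, u.2⟩
  map_one' := map_one (prU k)
  map_mul' u v := map_mul (prU k) ⟨_, u.2⟩ ⟨_, v.2⟩

theorem uPart_eq (hC : TwistBN.Ctx d σ) (k : ℕ) (hk : 2 * k + 2 ≤ n) :
    uPart (TwistBN.bnPair hC) (unipU d σ) (sRep hC k hk) =
      (nodeHom d σ k).ker.map (unipU d σ).subtype := by
  ext u
  rw [mem_uPart]
  constructor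
  · rintro ⟨hu, hB⟩
    refine ⟨⟨u, hu⟩, MonoidHom.mem_ker.2 ?_, rfl⟩
    obtain ⟨uP, uO, hPU, hOU, hObd, hP, rfl⟩ := exists_blk_split hk hu
    set s := sRep hC k hk
    have h2 : s⁻¹ * uP * s ∈ borel d σ := borel_conj' (conj_refl hk (sRep_mono hC hk) hP)
    have h3 : s⁻¹ * uO * s ∈ borel d σ := by
      rw [show s⁻¹ * uO * s = (s⁻¹ * uP * s)⁻¹ * (s⁻¹ * (uP * uO) * s) by group]
      exact mul_mem (inv_mem h2) hB
    have h3' : (s : GL (Fin n) F)⁻¹ * (uO : GL (Fin n) F) * (s : GL (Fin n) F) ∈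
        Cfsg.upperTriangularGL n F := by
      rw [TwistBN.borel, Subgroup.mem_subgroupOf, Subgroup.coe_mul, Subgroup.coe_mul,
        Subgroup.coe_inv] at h3
      exact h3
    have he1 : uO = 1 := Subtype.ext (eq_one_of_refl hk (sRep_mono hC hk) hOU hObd h3')
    subst he1
    show prU k ⟨((uP * 1 : fixS d σ) : GL (Fin n) F), hu⟩ = 1
    simp only [mul_one]
    exact hP
  · rintro ⟨v, hv, rfl⟩
    have hv' : prU k ⟨((v : fixS d σ) : GL (Fin n) F), v.2⟩ = 1 := MonoidHom.mem_ker.1 hv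
    exact ⟨v.2, borel_conj' (s := sRep hC k hk) (x := (v : fixS d σ))
      (conj_refl hk (sRep_mono hC hk) hv')⟩

theorem card_range_nodeHom (hC : TwistBN.Ctx d σ) (k : ℕ) (hk : 2 * k + 2 ≤ n) :
    Nat.card (nodeHom d σ k).range * Nat.card (uPart (TwistBN.bnPair hC) (unipU d σ) (sRep hC k hk)) =
      Nat.card ↥(unipU d σ) := by
  rw [uPart_eq hC k hk, Subgroup.card_map_of_injective (Subgroup.subtype_injective _),
    ← Subgroup.index_ker, mul_comm, Subgroup.card_mul_index]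

theorem uPart_lt (hC : TwistBN.Ctx d σ) {k l : ℕ} (hk : 2 * k + 2 ≤ n) (hl : 2 * l + 2 ≤ n)
    (h : Nat.card (nodeHom d σ k).range < Nat.card (nodeHom d σ l).range) :
    Nat.card (uPart (TwistBN.bnPair hC) (unipU d σ) (sRep hC l hl)) <
      Nat.card (uPart (TwistBN.bnPair hC) (unipU d σ) (sRep hC k hk)) := by
  by_contra hc
  have h1 := card_range_nodeHom hC k hk
  have h2 := card_range_nodeHom hC l hl
  have := Nat.mul_lt_mul_of_lt_of_le h (not_lt.1 hc) Nat.card_pos
  omega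

theorem mem_range_nodeHom {k : ℕ} {w : GL (Fin n) F} (hw : w ∈ uni F n) (hwf : w ∈ fixS d σ)
    (hbd : BD k w.1) : (⟨w, hw⟩ : uni F n) ∈ (nodeHom d σ k).range :=
  ⟨⟨⟨w, hwf⟩, hw⟩, Subtype.ext (Units.ext (Matrix.ext fun i j => by
    show (prU k ⟨w, hw⟩ : GL (Fin n) F).1 i j = w.1 i j
    rw [prU_apply]
    by_cases h : blk k i = blk k j
    · rw [if_pos h]
    · rw [if_neg h, hbd i j h]))⟩

theorem range_props {k : ℕ} (hk : 2 * k + 2 ≤ n) {x : uni F n}
    (hx : x ∈ (nodeHom d σ k).range) : BD k (x : GL (Fin n) F).1 ∧ (x : GL (Fin n) F) ∈ fixS d σ := by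
  obtain ⟨u, rfl⟩ := hx
  exact ⟨bd_prU k _, prU_mem_fixS hk (u := ⟨_, u.2⟩) (u : fixS d σ).2⟩

end Node

section Char2

variable {σ : F ≃+* F}

theorem gram_entry {n : ℕ} {g : GL (Fin n) F} (hg : g ∈ fixS (1 : Fin n → Fˣ) σ) (i j : Fin n) :
    ∑ z, g.1 i z * σ (g.1 j (Fin.rev z)) = if j = Fin.rev i then 1 else 0 := by
  have h := congrFun (congrFun ((th_eq_iff _ σ g).1 (mem_fixS.1 hg).1) i) j
  rw [Matrix.mul_assoc, Matrix.mul_apply] at h
  simp only [gram_mul] at h
  simpa [TwistBN.gram] using h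

theorem mem_of_gram {n : ℕ} {g : GL (Fin n) F} (hg : g ∈ uni F n)
    (h : ∀ i j : Fin n, ∑ z, g.1 i z * σ (g.1 j (Fin.rev z)) = if j = Fin.rev i then 1 else 0) :
    g ∈ fixS (1 : Fin n → Fˣ) σ := by
  refine mem_fixS.2 ⟨(th_eq_iff _ σ g).2 (Matrix.ext fun i j => ?_), det_uni hg⟩
  rw [Matrix.mul_assoc, Matrix.mul_apply]
  simp only [gram_mul]
  simpa [TwistBN.gram] using h i j

theorem two_zero [CharP F 2] : (1 : F) + 1 = 0 := by
  rw [one_add_one_eq_two]; exact CharTwo.two_eq_zero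

theorem bd_zero {k n : ℕ} {A : Matrix (Fin n) (Fin n) F} (h : BD k A) (i j : Fin n)
    (hij : blk k i ≠ blk k j) : A i j = 0 := h i j hij

theorem card_range_four [CharP F 2] (hne : σ ≠ RingEquiv.refl F) (hinv : ∀ a, σ (σ a) = a) :
    Nat.card (nodeHom (1 : Fin 4 → Fˣ) σ 1).range < Nat.card (nodeHom (1 : Fin 4 → Fˣ) σ 0).range := by
  classical
  obtain ⟨x0, hx0⟩ : ∃ x, σ x ≠ x := by
    by_contra h
    push Not at h
    exact hne (RingEquiv.ext h)
  refine lt_of_lt_of_le (b := Nat.card F) ?_ ?_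
  · let f : (nodeHom (1 : Fin 4 → Fˣ) σ 1).range → F := fun u => (u.1 : GL (Fin 4) F).1 1 2
    have hz : ∀ (u : (nodeHom (1 : Fin 4 → Fˣ) σ 1).range) (i j : Fin 4),
        ¬ (i = 1 ∧ j = 2) → (u.1 : GL (Fin 4) F).1 i j = if i = j then 1 else 0 := by
      intro u i j hij
      obtain ⟨hbd, -⟩ := range_props (k := 1) (by omega) u.2
      have h1 := mem_uni.1 (u.1).2
      rcases lt_trichotomy i j with h | rfl | h
      · rw [if_neg h.ne]
        refine hbd i j ?_
        revert h hij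
        fin_cases i <;> fin_cases j <;> simp [blk, bV]
      · rw [if_pos rfl]; exact h1.2 i
      · rw [if_neg h.ne']; exact h1.1 i j h
    have hinj : Function.Injective f := fun u v huv => Subtype.ext (Subtype.ext (Units.ext
      (Matrix.ext fun i j => by
        by_cases h : i = 1 ∧ j = 2
        · rw [h.1, h.2]; exact huv
        · rw [hz u i j h, hz v i j h])))
    rw [Nat.card_eq_fintype_card, Nat.card_eq_fintype_card]
    refine Fintype.card_lt_of_injective_of_notMem f hinj (b := x0) ?_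
    rintro ⟨u, hu⟩
    apply hx0
    have h := gram_entry (range_props (k := 1) (by omega) u.2).2 (1 : Fin 4) 1
    simp only [Fin.sum_univ_four] at h
    rw [hz u 1 0 (by decide), hz u 1 1 (by decide), hz u 1 3 (by decide)] at h
    simp [show (Fin.rev 0 : Fin 4) = 3 from rfl, show (Fin.rev 1 : Fin 4) = 2 from rfl,
      show (Fin.rev 2 : Fin 4) = 1 from rfl, show (Fin.rev 3 : Fin 4) = 0 from rfl,
      hz u 1 1 (by decide)] at h
    rw [← hu]
    show σ (f u) = f u
    exact CharTwo.add_eq_zero.1 h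
  · let w : F → GL (Fin 4) F := fun a => tgl (show (0 : Fin 4) ≠ 1 by decide) a *
      tgl (show (2 : Fin 4) ≠ 3 by decide) (σ a)
    have hw : ∀ a, w a ∈ uni F 4 := fun a =>
      mul_mem (tgl_uni (show (0 : Fin 4) < 1 by decide) _) (tgl_uni (show (2 : Fin 4) < 3 by decide) _)
    have hval : ∀ a x y, (w a).1 x y = (if x = y then 1 else 0) +
        (if x = 0 ∧ y = 1 then a else 0) + if x = 2 ∧ y = 3 then σ a else 0 :=
      fun a x y => tgl_mul_apply _ _ (by decide) _ _ x y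
    have hfix : ∀ a, w a ∈ fixS (1 : Fin 4 → Fˣ) σ := fun a => mem_of_gram (hw a) fun i j => by
      simp only [Fin.sum_univ_four, hval]
      fin_cases i <;> fin_cases j <;> simp [hinv, Fin.ext_iff, Fin.val_rev, CharTwo.add_self_eq_zero]
    have hbd : ∀ a, BD 0 (w a).1 := fun a i j hij => by
      rw [hval]
      revert hij
      fin_cases i <;> fin_cases j <;> simp [blk, bV, Fin.ext_iff]
    refine Nat.card_le_card_of_injective
      (fun a => (⟨⟨w a, hw a⟩, mem_range_nodeHom (hw a) (hfix a) (hbd a)⟩ :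
        (nodeHom (1 : Fin 4 → Fˣ) σ 0).range)) fun a b h => ?_
    have := congrArg (fun u : (nodeHom (1 : Fin 4 → Fˣ) σ 0).range => (u.1 : GL (Fin 4) F).1 0 1) h
    simpa [hval, Fin.ext_iff] using this

theorem card_range_five [CharP F 2] (hne : σ ≠ RingEquiv.refl F) (hinv : ∀ a, σ (σ a) = a) :
    Nat.card (nodeHom (1 : Fin 5 → Fˣ) σ 0).range < Nat.card (nodeHom (1 : Fin 5 → Fˣ) σ 1).range := by
  classical
  obtain ⟨x0, hx0⟩ : ∃ x, σ x ≠ x := by
    by_contra h
    push Not at h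
    exact hne (RingEquiv.ext h)
  refine lt_of_le_of_lt (b := Nat.card F) ?_ ?_
  · refine Nat.card_le_card_of_injective
      (fun u : (nodeHom (1 : Fin 5 → Fˣ) σ 0).range => (u.1 : GL (Fin 5) F).1 0 1) fun u v huv => ?_
    have hz : ∀ (u : (nodeHom (1 : Fin 5 → Fˣ) σ 0).range) (i j : Fin 5),
        ¬ (i = 0 ∧ j = 1) → ¬ (i = 3 ∧ j = 4) →
          (u.1 : GL (Fin 5) F).1 i j = if i = j then 1 else 0 := by
      intro u i j hij hij'
      obtain ⟨hbd, -⟩ := range_props (k := 0) (by omega) u.2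
      have h1 := mem_uni.1 (u.1).2
      rcases lt_trichotomy i j with h | rfl | h
      · rw [if_neg h.ne]
        refine hbd i j ?_
        revert h hij hij'
        fin_cases i <;> fin_cases j <;> simp [blk, bV]
      · rw [if_pos rfl]; exact h1.2 i
      · rw [if_neg h.ne']; exact h1.1 i j h
    have he : ∀ u : (nodeHom (1 : Fin 5 → Fˣ) σ 0).range,
        (u.1 : GL (Fin 5) F).1 3 4 = σ ((u.1 : GL (Fin 5) F).1 0 1) := by
      intro u
      have h := gram_entry (range_props (k := 0) (by omega) u.2).2 (0 : Fin 5) 3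
      simp only [Fin.sum_univ_five] at h
      simp [hz u 0 2 (by decide) (by decide), hz u 0 3 (by decide) (by decide),
        hz u 0 4 (by decide) (by decide), hz u 0 0 (by decide) (by decide),
        hz u 3 3 (by decide) (by decide), Fin.ext_iff, show (Fin.rev 0 : Fin 5) = 4 from rfl,
        show (Fin.rev 1 : Fin 5) = 3 from rfl] at h
      rw [← CharTwo.add_eq_zero.1 (show σ ((u.1 : GL (Fin 5) F).1 3 4) +
        (u.1 : GL (Fin 5) F).1 0 1 = 0 from h), hinv]
    refine Subtype.ext (Subtype.ext (Units.ext (Matrix.ext fun i j => ?_)))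
    by_cases h : i = 0 ∧ j = 1
    · rw [h.1, h.2]; exact huv
    by_cases h' : i = 3 ∧ j = 4
    · rw [h'.1, h'.2, he u, he v]; exact congrArg σ huv
    rw [hz u i j h h', hz v i j h h']
  · have hw0 : x0 + σ x0 ≠ 0 := fun h => hx0 (CharTwo.add_eq_zero.1 h).symm
    set t := x0 / (x0 + σ x0) with htdef
    have ht : t + σ t = 1 := by
      rw [htdef, map_div₀, map_add, hinv, add_comm (σ x0) x0, ← add_div, div_self hw0]
    let w : F → F → GL (Fin 5) F := fun x y => tgl (show (1 : Fin 5) ≠ 3 by decide) y *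
      tgl (show (2 : Fin 5) ≠ 3 by decide) (σ x) * tgl (show (1 : Fin 5) ≠ 2 by decide) x
    have hw : ∀ x y, w x y ∈ uni F 5 := fun x y => mul_mem
      (mul_mem (tgl_uni (show (1 : Fin 5) < 3 by decide) _)
        (tgl_uni (show (2 : Fin 5) < 3 by decide) _)) (tgl_uni (show (1 : Fin 5) < 2 by decide) _)
    have hval : ∀ x y i j, (w x y).1 i j = (if i = j then 1 else 0) +
        (if i = 1 ∧ j = 3 then y else 0) + (if i = 2 ∧ j = 3 then σ x else 0) +
          if i = 1 ∧ j = 2 then x else 0 := by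
      intro x y i j
      have e : (w x y).1 = (tgl (show (1 : Fin 5) ≠ 3 by decide) y *
        tgl (show (2 : Fin 5) ≠ 3 by decide) (σ x)).1 * (tgl (show (1 : Fin 5) ≠ 2 by decide) x).1 := rfl
      rw [e, Matrix.mul_apply, Fin.sum_univ_five]
      simp only [tgl_mul_apply _ _ (show (3 : Fin 5) ≠ 2 by decide), tgl_apply]
      fin_cases i <;> fin_cases j <;> simp [Fin.ext_iff]
    have hfix : ∀ x y, y + σ y = x * σ x → w x y ∈ fixS (1 : Fin 5 → Fˣ) σ := fun x y hy =>
      mem_of_gram (hw x y) fun i j => by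
        simp only [Fin.sum_univ_five, hval]
        fin_cases i <;> fin_cases j <;> simp [hinv, Fin.ext_iff, Fin.val_rev,
          CharTwo.add_self_eq_zero]
        all_goals first
          | exact CharTwo.add_self_eq_zero _
          | linear_combination hy + (x * σ x) * two_zero (F := F)
    have hbd : ∀ x y, BD 1 (w x y).1 := fun x y i j hij => by
      rw [hval]
      revert hij
      fin_cases i <;> fin_cases j <;> simp [blk, bV, Fin.ext_iff]
    let m : Option F → F × F := fun o => o.elim (0, 1) fun x => (x, t * (x * σ x))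
    have hm : ∀ o, (m o).2 + σ (m o).2 = (m o).1 * σ (m o).1 := by
      rintro (_ | x)
      · simp [m, CharTwo.add_self_eq_zero]
      · simp only [m, Option.elim, map_mul, hinv]
        linear_combination (x * σ x) * ht
    have hlt : Nat.card F < Nat.card (Option F) := by
      rw [Nat.card_eq_fintype_card, Nat.card_eq_fintype_card, Fintype.card_option]; omega
    refine hlt.trans_le (Nat.card_le_card_of_injective
      (fun o => (⟨⟨w (m o).1 (m o).2, hw _ _⟩,
        mem_range_nodeHom (hw _ _) (hfix _ _ (hm o)) (hbd _ _)⟩ :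
        (nodeHom (1 : Fin 5 → Fˣ) σ 1).range)) fun a b h => ?_)
    have h1 := congrArg (fun u : (nodeHom (1 : Fin 5 → Fˣ) σ 1).range => (u.1 : GL (Fin 5) F).1 1 2) h
    have h2 := congrArg (fun u : (nodeHom (1 : Fin 5 → Fˣ) σ 1).range => (u.1 : GL (Fin 5) F).1 1 3) h
    simp [hval, Fin.ext_iff] at h1 h2
    rcases a with _ | a <;> rcases b with _ | b
    · rfl
    · simp [m] at h1 h2; simp [← h1] at h2
    · simp [m] at h1 h2; simp [h1] at h2
    · simp [m] at h1; rw [h1]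

end Char2

theorem hasRigid_psu [CharP F 2] {n q : ℕ} (hF : Fintype.card F = q ^ 2) (h4 : 4 ≤ n) (h5 : n ≤ 5) :
    HasTwoRigid 2 (Cfsg.PSU n F q) := by
  haveI : Fact (Nat.Prime 2) := ⟨Nat.prime_two⟩
  obtain ⟨σ, hne, hinv, hC, ⟨e⟩⟩ := su_equiv_one (n := n) hF
  have hsp := TwistBN.split hC 2
  have htwo := two_fixS hC h4 h5
  have h : HasTwoCard 2 ↥(fixS (1 : Fin n → Fˣ) σ) := by
    rcases (by omega : n = 4 ∨ n = 5) with rfl | rfl
    · exact ⟨_, _, _, _, hsp, htwo.symm, uPart_lt hC _ _ (card_range_four hne hinv)⟩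
    · exact ⟨_, _, _, _, hsp, htwo, uPart_lt hC _ _ (card_range_five hne hinv)⟩
  exact ((h.congr e.symm).map _ (QuotientGroup.mk'_surjective _)
    (by rw [QuotientGroup.ker_mk'])).rigid

end CfsgLib.SplitBN
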